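import Cfsg.Agent.OddHalf.D6.Bal
import Cfsg.Agent.Lib.PSL2Torus
import Cfsg.Agent.OddHalf.D6.TypeA
import Cfsg.Agent.TwoFusion.CyclicAut

-- merged: Cfsg.Agent.OddHalf.D6.CentRes
section

/-!
# ODD D6: `C(x) ∩ C(z)` modulo `A₀ = O(C_K(z))` (bb ODD 7030 (1))

`K ≅ PSL(2,F)` is normal in `C(x)`, `Q = C_{C(x)}(K)` is a cyclic 2-group containing `x`, `z ∈ K` an
involution. The elements of odd order of `C_K(z)` form a cyclic group `A₀`, and `[y, v] ∈ A₀` for all
`y, v ∈ C(x) ∩ C(z)` with `y` of odd order. (`Fr`: the case `Q = ⟨x⟩`.)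
-/

set_option autoImplicit false

open Subgroup Cfsg Cfsg.Agent.GH
open Cfsg.Agent.GH.L2Aut (Four)

namespace Cfsg.Agent.OddHalf.D6

/-- in a group: `y ^ n = 1`, `n` odd, `m = [y, v]` a 2-element commuting with `y`: `m = 1` -/
theorem comm_eq_one {Q : Type*} [Group Q] {y v m : Q} {n j : ℕ} (hy : y ^ n = 1) (hn : Odd n)
    (hm : y * v * y⁻¹ * v⁻¹ = m) (hc : y * m = m * y) (h2 : m ^ 2 ^ j = 1) : m = 1 := by
  have h1 : ∀ k : ℕ, y ^ k * v * (y ^ k)⁻¹ = m ^ k * v := by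
    intro k
    induction k with
    | zero => simp
    | succ k ih =>
      have h3 : y * v * y⁻¹ = m * v := by rw [← hm, inv_mul_cancel_right]
      have h4 : y * m ^ k * y⁻¹ = m ^ k := by
        rw [(show Commute y m from hc).pow_right k |>.eq, mul_inv_cancel_right]
      calc y ^ (k + 1) * v * (y ^ (k + 1))⁻¹ = y * (y ^ k * v * (y ^ k)⁻¹) * y⁻¹ := by
            rw [pow_succ']; group
        _ = y * (m ^ k * v) * y⁻¹ := by rw [ih]
        _ = (y * m ^ k * y⁻¹) * (y * v * y⁻¹) := by group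
        _ = m ^ (k + 1) * v := by rw [h4, h3, pow_succ, mul_assoc]
  have h3 := h1 n
  rw [hy, one_mul, inv_one, mul_one] at h3
  have h4 : m ^ n = 1 := (mul_eq_right.1 h3.symm)
  have h5 : orderOf m ∣ n := orderOf_dvd_of_pow_eq_one h4
  have h6 : orderOf m ∣ 2 ^ j := orderOf_dvd_of_pow_eq_one h2
  have h7 : Nat.Coprime n (2 ^ j) := Nat.Coprime.pow_right j (Nat.coprime_two_right.2 hn)
  have h8 := Nat.eq_one_of_dvd_coprimes h7 h5 h6
  exact orderOf_eq_one_iff.1 h8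

/-- The frame: `K ≅ PSL(2,F)` normal in `C(x)` with `C_{C(x)}(K) = ⟨x⟩`, `z` an involution of `K`. -/
structure Fr {G : Type*} [Group G] (x z : G) (K : Subgroup G) : Prop where
  xx : x * x = 1
  Kx : ∀ k ∈ K, k * x = x * k
  Kn : ∀ c, c * x = x * c → ∀ k ∈ K, c * k * c⁻¹ ∈ K
  CK : ∀ c, c * x = x * c → (∀ k ∈ K, c * k = k * c) → c = 1 ∨ c = x
  zK : z ∈ K
  zz : z * z = 1
  z1 : z ≠ 1

/-- The general frame: `Q = C_{C(x)}(K) = ⟨q₀⟩` is a cyclic 2-group with involution `x`. -/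
structure FrQ {G : Type*} [Group G] (x z q₀ : G) (K : Subgroup G) : Prop where
  xx : x * x = 1
  Kx : ∀ k ∈ K, k * x = x * k
  Kn : ∀ c, c * x = x * c → ∀ k ∈ K, c * k * c⁻¹ ∈ K
  Qx : q₀ * x = x * q₀
  QK : ∀ k ∈ K, q₀ * k = k * q₀
  Q2 : ∃ n, q₀ ^ 2 ^ n = 1
  Qi : ∀ q ∈ zpowers q₀, q * q = 1 → q = 1 ∨ q = x
  CK : ∀ c, c * x = x * c → (∀ k ∈ K, c * k = k * c) → c ∈ zpowers q₀
  zK : z ∈ K
  zz : z * z = 1
  z1 : z ≠ 1

theorem mem_zpowers_of_sq {G : Type*} [Group G] {x q : G} (xx : x * x = 1) (hq : q ∈ zpowers x) :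
    q = 1 ∨ q = x := by
  obtain ⟨k, rfl⟩ := mem_zpowers_iff.1 hq
  have h2 : x ^ (2 : ℤ) = 1 := by rw [zpow_two]; exact xx
  rcases Int.even_or_odd' k with ⟨m, h | h⟩
  · left; rw [h, zpow_mul, h2, one_zpow]
  · right; rw [h, zpow_add, zpow_mul, h2, one_zpow, zpow_one, one_mul]

theorem Fr.toQ {G : Type*} [Group G] {x z : G} {K : Subgroup G} (f : Fr x z K) : FrQ x z x K where
  xx := f.xx
  Kx := f.Kx
  Kn := f.Kn
  Qx := rfl
  QK := fun k hk => (f.Kx k hk).symm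
  Q2 := ⟨1, by rw [pow_one, sq, f.xx]⟩
  Qi := fun _ hq _ => mem_zpowers_of_sq f.xx hq
  CK := fun c hc hK => by
    rcases f.CK c hc hK with h | h
    · rw [h]; exact one_mem _
    · rw [h]; exact mem_zpowers x
  zK := f.zK
  zz := f.zz
  z1 := f.z1

section torus

variable {F L : Type*} [Field F] [Finite F] [Group L]

/-- the torus of an involution and its odd part -/
theorem exists_oddPart (R : L2Aut.Rep F L) {t : L} (ht1 : t ≠ 1) (ht : t * t = 1) :
    ∃ (T A : Subgroup L) (v : L), A ≤ T ∧ t ∈ T ∧ (∃ g ∈ T, ∀ a ∈ T, a ∈ zpowers g) ∧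
      (∀ a, a ∈ A ↔ a * t = t * a ∧ Odd (orderOf a)) ∧
      (∀ a ∈ T, a * t = t * a) ∧ (∀ a ∈ T, a * a = 1 → a = 1 ∨ a = t) ∧
      (∀ x, x * t = t * x → x ∉ T → x * x = 1 ∧ ∀ y ∈ T, x * y * x⁻¹ = y⁻¹) ∧
      (∀ x y, x * t = t * x → x ∉ T → y * t = t * y → y ∉ T → x * y ∈ T) ∧
      v * t = t * v ∧ v ∉ T ∧ Odd (Nat.card A) := by
  have hfin := R.finite
  obtain ⟨T, hcyc, htT, hT, -, hout, ⟨v, hv, hvT⟩, hprod⟩ :=
    Cfsg.Agent.Lib.PSL2Torus.exists_torus_hom R.π R.two R.surj R.ker ht1 ht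
  obtain ⟨⟨g, hg⟩, hgen⟩ := hcyc
  have hgen' : ∀ a ∈ T, a ∈ zpowers g := by
    intro a ha
    obtain ⟨k, hk⟩ := mem_zpowers_iff.1 (hgen ⟨a, ha⟩)
    exact mem_zpowers_iff.2 ⟨k, congrArg Subtype.val hk⟩
  have hcomm : ∀ a ∈ T, ∀ b ∈ T, a * b = b * a := by
    intro a ha b hb
    obtain ⟨i, rfl⟩ := mem_zpowers_iff.1 (hgen' a ha)
    obtain ⟨j, rfl⟩ := mem_zpowers_iff.1 (hgen' b hb)
    rw [← zpow_add, ← zpow_add, add_comm]
  have huniq : ∀ a ∈ T, a * a = 1 → a = 1 ∨ a = t := by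
    intro a ha haa
    by_cases ha1 : a = 1
    · exact Or.inl ha1
    right
    by_contra hat
    exact L2Aut.four_not_cyc (a := a) (b := t) (c := g)
      ⟨haa, ht, ha1, ht1, hat, hT a ha⟩ (hgen' a ha) (hgen' t htT)
  let A : Subgroup L :=
    { carrier := {a | a ∈ T ∧ Odd (orderOf a)}
      one_mem' := ⟨one_mem _, by rw [orderOf_one]; exact odd_one⟩
      mul_mem' := by
        rintro a b ⟨ha, ha'⟩ ⟨hb, hb'⟩
        refine ⟨T.mul_mem ha hb, ?_⟩
        exact Odd.of_dvd_nat (ha'.mul hb')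
          ((show Commute a b from hcomm a ha b hb).orderOf_mul_dvd_mul_orderOf)
      inv_mem' := by
        rintro a ⟨ha, ha'⟩
        exact ⟨T.inv_mem ha, by rw [orderOf_inv]; exact ha'⟩ }
  refine ⟨T, A, v, fun a ha => ha.1, htT, ⟨g, hg, hgen'⟩, ?_, hT, huniq, fun x hx hxT => (hout x hx hxT).2,
    hprod, hv, hvT, ?_⟩
  · intro a
    constructor
    · rintro ⟨ha, ha'⟩
      exact ⟨hT a ha, ha'⟩
    · rintro ⟨ha, ha'⟩
      refine ⟨?_, ha'⟩
      by_contra haT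
      apply haT
      have h1 := eq_one_of_sq (hout a ha haT).2.1 ha'
      rw [h1]; exact one_mem _
  · rw [← Nat.not_even_iff_odd, even_iff_two_dvd]
    intro hdvd
    obtain ⟨y, hy⟩ := exists_prime_orderOf_dvd_card' (G := A) 2 hdvd
    have h1 : Odd (orderOf (y : L)) := y.2.2
    rw [Subgroup.orderOf_coe, hy] at h1
    exact absurd h1 (by decide)

end torus

namespace FrQ

variable {G : Type*} [Group G] [Finite G] {x z q₀ : G} {K : Subgroup G} (f : FrQ x z q₀ K)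

include f

theorem norm {c : G} (hc : c * x = x * c) : c ∈ normalizer (K : Set G) := mem_norm_of (f.Kn c hc)

omit [Finite G] in
theorem zx : z * x = x * z := f.Kx z f.zK

/-- The main result: `A₀`. -/
theorem exists_A {F : Type*} [Field F] [Finite F] (R : L2Aut.Rep F K) :
    ∃ (A : Subgroup G), (∀ a, a ∈ A ↔ a ∈ K ∧ a * z = z * a ∧ Odd (orderOf a)) ∧
      (∃ g ∈ A, ∀ a ∈ A, a ∈ zpowers g) ∧ Odd (Nat.card A) ∧
      (∃ v ∈ K, v * z = z * v ∧ v * v = 1 ∧ v ≠ z ∧ v ≠ 1 ∧ ∀ a ∈ A, v * a * v⁻¹ = a⁻¹) ∧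
      (∀ y v, y * x = x * y → v * x = x * v → y * z = z * y → v * z = z * v → Odd (orderOf y) →
        y * v * y⁻¹ * v⁻¹ ∈ A) := by
  have hz1' : (⟨z, f.zK⟩ : K) ≠ 1 := fun h => f.z1 (congrArg Subtype.val h)
  have hzz' : (⟨z, f.zK⟩ : K) * ⟨z, f.zK⟩ = 1 := Subtype.ext f.zz
  obtain ⟨T, A', v₀, hAT, hzT, ⟨g, hgT, hgen⟩, hA, hT, huniq, hout, hprod, hv₀, hv₀T, hodd⟩ :=
    exists_oddPart R hz1' hzz'
  have hcomm : ∀ a ∈ T, ∀ b ∈ T, a * b = b * a := by
    intro a ha b hb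
    obtain ⟨i, rfl⟩ := mem_zpowers_iff.1 (hgen a ha)
    obtain ⟨j, rfl⟩ := mem_zpowers_iff.1 (hgen b hb)
    rw [← zpow_add, ← zpow_add, add_comm]
  have hord : ∀ k : K, orderOf k = orderOf (k : G) := fun k => (Subgroup.orderOf_coe k).symm
  have hzc : ∀ k : K, k * ⟨z, f.zK⟩ = ⟨z, f.zK⟩ * k ↔ (k : G) * z = z * k := fun k =>
    ⟨fun h => congrArg Subtype.val h, fun h => Subtype.ext h⟩
  set A : Subgroup G := A'.map K.subtype with hAdef
  have hmem : ∀ a, a ∈ A ↔ a ∈ K ∧ a * z = z * a ∧ Odd (orderOf a) := by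
    intro a
    constructor
    · rintro ⟨k, hk, rfl⟩
      obtain ⟨h1, h2⟩ := (hA k).1 hk
      exact ⟨k.2, (hzc k).1 h1, by rw [hord] at h2; exact h2⟩
    · rintro ⟨h1, h2, h3⟩
      exact ⟨⟨a, h1⟩, (hA _).2 ⟨(hzc _).2 h2, by rw [hord]; exact h3⟩, rfl⟩
  -- `A` is normalised by `C(x) ∩ C(z)`
  have hAn : ∀ v, v * x = x * v → v * z = z * v → ∀ a ∈ A, v * a * v⁻¹ ∈ A := by
    intro v hvx hvz a ha
    obtain ⟨h1, h2, h3⟩ := (hmem a).1 ha
    refine (hmem _).2 ⟨f.Kn v hvx a h1, ?_, ?_⟩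
    · calc v * a * v⁻¹ * z = v * a * v⁻¹ * (z * v) * v⁻¹ := by group
        _ = v * a * v⁻¹ * (v * z) * v⁻¹ := by rw [hvz]
        _ = v * (a * z) * v⁻¹ := by group
        _ = (v * z) * a * v⁻¹ := by rw [h2]; group
        _ = z * (v * a * v⁻¹) := by rw [hvz]; group
    · have h4 : orderOf (v * a * v⁻¹) = orderOf a :=
        orderOf_injective (MulAut.conj v).toMonoidHom (MulAut.conj v).injective a
      rw [h4]; exact h3
  have hvv₀ := hout v₀ hv₀ hv₀T
  have hTpow : ∀ t ∈ T, ∃ j : ℕ, ((t : K) : G) ^ 2 ^ j ∈ A := by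
    intro t ht
    obtain ⟨k, m, hm, hkm⟩ := Nat.exists_eq_two_pow_mul_odd (orderOf_pos t).ne'
    refine ⟨k, ⟨t ^ 2 ^ k, (hA _).2 ⟨hT _ (T.pow_mem ht _), ?_⟩, by simp⟩⟩
    rw [orderOf_pow, hkm, Nat.gcd_eq_right (Dvd.intro _ rfl), Nat.mul_div_cancel_left _ (by positivity)]
    exact hm
  have hCKpow : ∀ k ∈ K, k * z = z * k → ∃ j : ℕ, k ^ 2 ^ j ∈ A := by
    intro k hk hkz
    by_cases h : (⟨k, hk⟩ : K) ∈ T
    · exact hTpow _ h
    · refine ⟨1, ?_⟩
      have h1 : k * k = 1 := congrArg Subtype.val (hout ⟨k, hk⟩ ((hzc _).2 hkz) h).1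
      rw [pow_one, sq, h1]
      exact one_mem _
  refine ⟨A, hmem, ?_, ?_, ⟨v₀, v₀.2, (hzc v₀).1 hv₀, congrArg Subtype.val hvv₀.1, ?_, ?_, ?_⟩, ?_⟩
  · -- cyclic
    have h1 : IsCyclic A' := by
      have h2 : IsCyclic T := ⟨⟨⟨g, hgT⟩, fun a => by
        obtain ⟨k, hk⟩ := mem_zpowers_iff.1 (hgen a a.2)
        exact mem_zpowers_iff.2 ⟨k, Subtype.ext hk⟩⟩⟩
      exact isCyclic_of_injective (Subgroup.inclusion hAT) (Subgroup.inclusion_injective hAT)
    obtain ⟨⟨c, hc⟩, hcgen⟩ := h1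
    refine ⟨(c : G), ⟨c, hc, rfl⟩, ?_⟩
    rintro _ ⟨a, ha, rfl⟩
    obtain ⟨k, hk⟩ := mem_zpowers_iff.1 (hcgen ⟨a, ha⟩)
    have hk' : c ^ k = a := congrArg Subtype.val hk
    exact mem_zpowers_iff.2 ⟨k, by rw [← hk']; simp⟩
  · rw [hAdef, card_map_of_injective K.subtype_injective]
    exact hodd
  · intro h
    apply hv₀T
    rw [show v₀ = ⟨z, f.zK⟩ from Subtype.ext h]
    exact hzT
  · intro h
    apply hv₀T
    rw [show v₀ = 1 from Subtype.ext h]
    exact one_mem _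
  · rintro _ ⟨a, ha, rfl⟩
    exact congrArg Subtype.val (hvv₀.2 a (hAT ha))
  · -- the main point
    intro y w hyx hwx hyz hwz hyo
    -- `S` = the elements commuting with `y` modulo `A`
    let S : Subgroup G :=
      { carrier := {v | v * x = x * v ∧ v * z = z * v ∧ y * v * y⁻¹ * v⁻¹ ∈ A}
        one_mem' := ⟨by rw [one_mul, mul_one], by rw [one_mul, mul_one], by
          rw [mul_one, inv_one, mul_one, mul_inv_cancel]; exact one_mem _⟩
        mul_mem' := by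
          rintro a b ⟨ha, ha', ha''⟩ ⟨hb, hb', hb''⟩
          refine ⟨by rw [mul_assoc, hb, ← mul_assoc, ha, mul_assoc],
            by rw [mul_assoc, hb', ← mul_assoc, ha', mul_assoc], ?_⟩
          have h1 := A.mul_mem ha'' (hAn a ha ha' _ hb'')
          have h2 : y * a * y⁻¹ * a⁻¹ * (a * (y * b * y⁻¹ * b⁻¹) * a⁻¹) =
            y * (a * b) * y⁻¹ * (a * b)⁻¹ := by group
          rwa [h2] at h1
        inv_mem' := by
          rintro a ⟨ha, ha', ha''⟩
          have e1 : a⁻¹ * x = x * a⁻¹ := by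
            rw [inv_mul_eq_iff_eq_mul, ← mul_assoc, ha, mul_inv_cancel_right]
          have e2 : a⁻¹ * z = z * a⁻¹ := by
            rw [inv_mul_eq_iff_eq_mul, ← mul_assoc, ha', mul_inv_cancel_right]
          refine ⟨e1, e2, ?_⟩
          have h1 := hAn a⁻¹ e1 e2 _ (A.inv_mem ha'')
          have h2 : a⁻¹ * (y * a * y⁻¹ * a⁻¹)⁻¹ * a⁻¹⁻¹ = y * a⁻¹ * y⁻¹ * a⁻¹⁻¹ := by group
          rwa [h2] at h1 }
    have hmemS : ∀ v, v ∈ S ↔ v * x = x * v ∧ v * z = z * v ∧ y * v * y⁻¹ * v⁻¹ ∈ A := fun v => Iff.rfl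
    have hAx : ∀ a ∈ A, a * x = x * a := fun a ha => f.Kx a ((hmem a).1 ha).1
    have hAz : ∀ a ∈ A, a * z = z * a := fun a ha => ((hmem a).1 ha).2.1
    have hAS : A ≤ S := by
      intro a ha
      refine ⟨hAx a ha, hAz a ha, A.mul_mem (hAn y hyx hyz a ha) (A.inv_mem ha)⟩
    -- the key step
    have key : ∀ v, v * x = x * v → v * z = z * v → y * v * y⁻¹ * v⁻¹ ∈ S →
        (∃ j : ℕ, (y * v * y⁻¹ * v⁻¹) ^ 2 ^ j ∈ A) → v ∈ S := by
      rintro v hvx hvz hm ⟨j, hj⟩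
      refine ⟨hvx, hvz, ?_⟩
      let N : Subgroup G := centralizer ({x} : Set G) ⊓ centralizer ({z} : Set G)
      have hN : ∀ g, g ∈ N ↔ g * x = x * g ∧ g * z = z * g := fun g => by
        rw [mem_inf, mem_centralizer_singleton_iff, mem_centralizer_singleton_iff]
      have hAN : ∀ a ∈ A, a ∈ N := fun a ha => (hN a).2 ⟨hAx a ha, hAz a ha⟩
      have hnorm : (A.subgroupOf N).Normal := ⟨by
        rintro ⟨a, haN⟩ ha ⟨g, hg⟩
        exact hAn g ((hN g).1 hg).1 ((hN g).1 hg).2 a ha⟩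
      have hyN : y ∈ N := (hN y).2 ⟨hyx, hyz⟩
      have hvN : v ∈ N := (hN v).2 ⟨hvx, hvz⟩
      let Y : N := ⟨y, hyN⟩
      let V : N := ⟨v, hvN⟩
      let q : N →* N ⧸ A.subgroupOf N := QuotientGroup.mk' _
      have hq : ∀ g : N, q g = 1 ↔ (g : G) ∈ A := fun g => by
        change (QuotientGroup.mk g : N ⧸ A.subgroupOf N) = 1 ↔ _
        rw [QuotientGroup.eq_one_iff]
        exact Iff.rfl
      have h1 : q (Y * V * Y⁻¹ * V⁻¹) = 1 := by
        refine comm_eq_one (y := q Y) (v := q V) (n := orderOf y) (j := j) ?_ hyo ?_ ?_ ?_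
        · rw [← map_pow, show Y ^ orderOf y = 1 from Subtype.ext (pow_orderOf_eq_one y), map_one]
        · simp only [map_mul, map_inv]
        · have h2 : q (Y * (Y * V * Y⁻¹ * V⁻¹) * Y⁻¹ * (Y * V * Y⁻¹ * V⁻¹)⁻¹) = 1 := by
            rw [hq]
            exact ((hmemS _).1 hm).2.2
          rw [map_mul, map_mul, map_mul, map_inv, map_inv, mul_inv_eq_one, mul_inv_eq_iff_eq_mul] at h2
          exact h2
        · rw [← map_pow, hq]
          exact hj
      rw [hq] at h1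
      exact h1
    -- (0) `T` is normalised by `y`
    have hTy : ∀ t : K, t ∈ T → ∃ t' : K, t' ∈ T ∧ (t' : G) = y * t * y⁻¹ := by
      intro t ht
      refine ⟨⟨y * t * y⁻¹, f.Kn y hyx t t.2⟩, ?_, rfl⟩
      have hc : (⟨y * t * y⁻¹, f.Kn y hyx t t.2⟩ : K) * ⟨z, f.zK⟩ = ⟨z, f.zK⟩ * ⟨y * t * y⁻¹, f.Kn y hyx t t.2⟩ := by
        rw [hzc]
        change y * t * y⁻¹ * z = z * (y * t * y⁻¹)
        have htz := (hzc t).1 (hT t ht)
        calc y * t * y⁻¹ * z = y * t * y⁻¹ * (z * y) * y⁻¹ := by group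
          _ = y * t * y⁻¹ * (y * z) * y⁻¹ := by rw [hyz]
          _ = y * (t * z) * y⁻¹ := by group
          _ = (y * z) * t * y⁻¹ := by rw [htz]; group
          _ = z * (y * t * y⁻¹) := by rw [hyz]; group
      by_contra h1
      have h2 := (hout _ hc h1).1
      have h3 : y * t * y⁻¹ * (y * t * y⁻¹) = 1 := congrArg Subtype.val h2
      have h4 : (t : G) * t = 1 := by
        have h5 : y * ((t : G) * t) * y⁻¹ = 1 := by rw [← h3]; group
        rw [mul_inv_eq_one] at h5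
        exact mul_eq_left.1 h5
      apply h1
      rcases huniq t ht (Subtype.ext h4) with h5 | h5
      · have h6 : (⟨y * t * y⁻¹, f.Kn y hyx t t.2⟩ : K) = 1 := by
          apply Subtype.ext
          change y * t * y⁻¹ = 1
          rw [h5, Subgroup.coe_one, mul_one, mul_inv_cancel]
        rw [h6]; exact one_mem _
      · have h6 : (⟨y * t * y⁻¹, f.Kn y hyx t t.2⟩ : K) = ⟨z, f.zK⟩ := by
          apply Subtype.ext
          change y * t * y⁻¹ = z
          rw [h5]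
          change y * z * y⁻¹ = z
          rw [hyz, mul_inv_cancel_right]
        rw [h6]; exact hzT
    -- (i) the 2-elements of `T`
    have h2T : ∀ j : ℕ, ∀ t : K, t ∈ T → t ^ 2 ^ j = 1 → y * (t : G) * y⁻¹ = t := by
      intro j
      induction j with
      | zero =>
        intro t _ h
        rw [pow_zero, pow_one] at h
        rw [h, Subgroup.coe_one, mul_one, mul_inv_cancel]
      | succ j ih =>
        intro t ht h
        obtain ⟨t', ht', htt'⟩ := hTy t ht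
        have h1 : y * ((t ^ 2 : K) : G) * y⁻¹ = (t ^ 2 : K) := ih (t ^ 2) (T.pow_mem ht _) (by
          rw [← pow_mul, ← pow_succ', h])
        have h3 : t' * t' = t * t := by
          apply Subtype.ext
          change (t' : G) * t' = t * t
          rw [htt']
          rw [Subgroup.coe_pow, sq] at h1
          rw [← h1]; group
        -- `m = t' t⁻¹` has order at most two
        have h4 : t' * t⁻¹ * (t' * t⁻¹) = 1 := by
          have hc := hcomm t⁻¹ (T.inv_mem ht) t' ht'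
          rw [mul_assoc, ← mul_assoc t⁻¹, hc, mul_assoc, ← mul_assoc t', h3]
          group
        have h5 : y * (t' * t⁻¹ : K) = (t' * t⁻¹ : K) * y := by
          rcases huniq _ (T.mul_mem ht' (T.inv_mem ht)) h4 with h6 | h6
          · rw [h6, Subgroup.coe_one, mul_one, one_mul]
          · rw [h6]; exact hyz
        have h6 := comm_eq_one (y := y) (v := (t : G)) (m := ((t' * t⁻¹ : K) : G)) (n := orderOf y)
          (j := 1) (pow_orderOf_eq_one y) hyo (by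
            rw [Subgroup.coe_mul, htt', Subgroup.coe_inv]) h5 (by
            rw [pow_one, sq]; exact congrArg Subtype.val h4)
        rw [Subgroup.coe_mul, Subgroup.coe_inv, mul_inv_eq_one, htt'] at h6
        exact h6
    have hTS : ∀ t : K, t ∈ T → (t : G) ∈ S := by
      intro t ht
      obtain ⟨k, m, hm, hkm⟩ := Nat.exists_eq_two_pow_mul_odd (orderOf_pos t).ne'
      have hcop : IsCoprime ((2 ^ k : ℕ) : ℤ) (m : ℤ) := by
        rw [Nat.isCoprime_iff_coprime]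
        exact Nat.Coprime.pow_left k (Nat.coprime_two_left.2 hm)
      obtain ⟨a, b, hab⟩ := hcop
      have h1 : t = (t ^ 2 ^ k) ^ a * (t ^ m) ^ b := by
        rw [← zpow_natCast t (2 ^ k), ← zpow_natCast t m, ← zpow_mul, ← zpow_mul, ← zpow_add,
          mul_comm _ a, mul_comm _ b, hab, zpow_one]
      have h2 : (((t ^ 2 ^ k : K) : K) : G) ∈ S := by
        apply hAS
        refine ⟨t ^ 2 ^ k, (hA _).2 ⟨hT _ (T.pow_mem ht _), ?_⟩, rfl⟩
        rw [orderOf_pow, hkm, Nat.gcd_eq_right (Dvd.intro _ rfl),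
          Nat.mul_div_cancel_left _ (by positivity)]
        exact hm
      have h3 : (((t ^ m : K) : K) : G) ∈ S := by
        have h4 := h2T k (t ^ m) (T.pow_mem ht _) (by
          rw [← pow_mul, mul_comm, ← hkm, pow_orderOf_eq_one])
        refine ⟨f.Kx _ (t ^ m).2, (hzc _).1 (hT _ (T.pow_mem ht _)), ?_⟩
        rw [h4, mul_inv_cancel]
        exact one_mem _
      rw [h1, Subgroup.coe_mul, Subgroup.coe_zpow, Subgroup.coe_zpow]
      exact S.mul_mem (S.zpow_mem h2 a) (S.zpow_mem h3 b)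
    -- (ii) `C_K(z)`
    have hCK : ∀ k ∈ K, k * z = z * k → k ∈ S := by
      intro k hk hkz
      by_cases hkT : (⟨k, hk⟩ : K) ∈ T
      · exact hTS _ hkT
      have hk' : y * k * y⁻¹ ∈ K := f.Kn y hyx k hk
      have hkz' : (y * k * y⁻¹) * z = z * (y * k * y⁻¹) := by
        calc y * k * y⁻¹ * z = y * k * y⁻¹ * (z * y) * y⁻¹ := by group
          _ = y * k * y⁻¹ * (y * z) * y⁻¹ := by rw [hyz]
          _ = y * (k * z) * y⁻¹ := by group
          _ = (y * z) * k * y⁻¹ := by rw [hkz]; group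
          _ = z * (y * k * y⁻¹) := by rw [hyz]; group
      have hT' : (⟨y * k * y⁻¹, hk'⟩ : K) ∉ T := by
        intro h
        apply hkT
        -- a power of `y` is `y⁻¹`
        have hpow : ∀ n : ℕ, ∀ t : K, t ∈ T → ∃ t' : K, t' ∈ T ∧ (t' : G) = y ^ n * t * (y ^ n)⁻¹ := by
          intro n
          induction n with
          | zero => intro t ht; exact ⟨t, ht, by simp⟩
          | succ n ih =>
            intro t ht
            obtain ⟨t', ht', e⟩ := ih t ht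
            obtain ⟨t'', ht'', e'⟩ := hTy t' ht'
            exact ⟨t'', ht'', by rw [e', e, pow_succ']; group⟩
        obtain ⟨t', ht', e⟩ := hpow (orderOf y - 1) _ h
        have h1 : y ^ (orderOf y - 1) = y⁻¹ := by
          rw [eq_inv_iff_mul_eq_one, ← pow_succ, Nat.sub_add_cancel (orderOf_pos y),
            pow_orderOf_eq_one]
        rw [h1] at e
        have h2 : t' = ⟨k, hk⟩ := by
          apply Subtype.ext
          rw [e]
          change y⁻¹ * (y * k * y⁻¹) * y⁻¹⁻¹ = k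
          group
        rwa [← h2]
      have hk1 : k * k = 1 := congrArg Subtype.val (hout ⟨k, hk⟩ ((hzc _).2 hkz) hkT).1
      have hki : k⁻¹ = k := inv_eq_of_mul_eq_one_left hk1
      have h1 : (⟨y * k * y⁻¹, hk'⟩ : K) * ⟨k, hk⟩ ∈ T :=
        hprod _ _ ((hzc _).2 hkz') hT' ((hzc _).2 hkz) hkT
      have h2 : y * k * y⁻¹ * k⁻¹ ∈ S := by
        rw [hki]
        exact hTS _ h1
      refine key k (f.Kx k hk) hkz h2 ?_
      rw [hki]
      exact hTpow _ h1
    -- (iii) `Q`: `y` centralises `Q`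
    have hQx : ∀ q ∈ zpowers q₀, q * x = x * q := by
      intro q hq
      obtain ⟨k, rfl⟩ := mem_zpowers_iff.1 hq
      exact ((show Commute q₀ x from f.Qx).zpow_left k)
    have hQK : ∀ q ∈ zpowers q₀, ∀ k ∈ K, q * k = k * q := by
      intro q hq k hk
      obtain ⟨i, rfl⟩ := mem_zpowers_iff.1 hq
      exact ((show Commute q₀ k from f.QK k hk).zpow_left i)
    have hyQ : ∀ q ∈ zpowers q₀, y * q * y⁻¹ ∈ zpowers q₀ := by
      intro q hq
      refine f.CK _ ?_ ?_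
      · have h1 : ∀ u, u * x = x * u ↔ u ∈ centralizer ({x} : Set G) := fun u =>
          mem_centralizer_singleton_iff.symm
        have h2 := hQx q hq
        rw [h1] at hyx h2 ⊢
        exact mul_mem (mul_mem hyx h2) (inv_mem hyx)
      · intro k hk
        have hyx' : y⁻¹ * x = x * y⁻¹ := by
          rw [inv_mul_eq_iff_eq_mul, ← mul_assoc, hyx, mul_inv_cancel_right]
        have h1 : y⁻¹ * k * y ∈ K := by
          have := f.Kn y⁻¹ hyx' k hk
          rwa [inv_inv] at this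
        calc y * q * y⁻¹ * k = y * (q * (y⁻¹ * k * y)) * y⁻¹ := by group
          _ = y * ((y⁻¹ * k * y) * q) * y⁻¹ := by rw [hQK q hq _ h1]
          _ = k * (y * q * y⁻¹) := by group
    have h2Q : ∀ j : ℕ, ∀ q ∈ zpowers q₀, q ^ 2 ^ j = 1 → y * q * y⁻¹ = q := by
      intro j
      induction j with
      | zero =>
        intro t _ h
        rw [pow_zero, pow_one] at h
        rw [h, mul_one, mul_inv_cancel]
      | succ j ih =>
        intro t ht h
        have h1 := ih (t ^ 2) (pow_mem ht 2) (by rw [← pow_mul, ← pow_succ', h])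
        obtain ⟨t', ht'⟩ : ∃ t', t' = y * t * y⁻¹ := ⟨_, rfl⟩
        have ht'Q : t' ∈ zpowers q₀ := by rw [ht']; exact hyQ t ht
        have hc : t⁻¹ * t' = t' * t⁻¹ := by
          obtain ⟨a, ha⟩ := mem_zpowers_iff.1 ((zpowers q₀).inv_mem ht)
          obtain ⟨b, hb⟩ := mem_zpowers_iff.1 ht'Q
          rw [← ha, ← hb, ← zpow_add, ← zpow_add, add_comm]
        have h3 : t' * t' = t * t := by
          rw [ht']
          rw [sq] at h1
          rw [← h1]; group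
        have h4 : t' * t⁻¹ * (t' * t⁻¹) = 1 := by
          rw [mul_assoc, ← mul_assoc t⁻¹, hc, mul_assoc, ← mul_assoc t', h3]
          group
        have h5 : y * (t' * t⁻¹) = (t' * t⁻¹) * y := by
          rcases f.Qi _ (mul_mem ht'Q (inv_mem ht)) h4 with h6 | h6
          · rw [h6, mul_one, one_mul]
          · rw [h6]; exact hyx
        have h6 := comm_eq_one (y := y) (v := t) (m := t' * t⁻¹) (n := orderOf y)
          (j := 1) (pow_orderOf_eq_one y) hyo (by rw [ht']) h5 (by rw [pow_one, sq, h4])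
        rw [ht', mul_inv_eq_one] at h6
        exact h6
    obtain ⟨nQ, hnQ⟩ := f.Q2
    have hQpow : ∀ q ∈ zpowers q₀, q ^ 2 ^ nQ = 1 := by
      intro q hq
      obtain ⟨k, rfl⟩ := mem_zpowers_iff.1 hq
      rw [← zpow_natCast, ← zpow_mul, mul_comm, zpow_mul, zpow_natCast, hnQ, one_zpow]
    have hQS : ∀ q ∈ zpowers q₀, q ∈ S := by
      intro q hq
      refine ⟨hQx q hq, hQK q hq z f.zK, ?_⟩
      rw [h2Q nQ q hq (hQpow q hq), mul_inv_cancel]
      exact one_mem _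
    -- elements acting on `K` as an inner automorphism
    have hinn : ∀ v (hvx : v * x = x * v), v * z = z * v → act K v (f.norm hvx) ∈ L2Aut.Inn K →
        v ∈ S ∧ ∃ j : ℕ, v ^ 2 ^ j ∈ A := by
      rintro v hvx hvz ⟨k, hk⟩
      have hk1 : ∀ l : K, (k : G) * l * (k : G)⁻¹ = v * l * v⁻¹ := fun l => by
        have h1 : act K v (f.norm hvx) l = k * l * k⁻¹ := by rw [← hk]; rfl
        exact (congrArg Subtype.val h1).symm
      have hkz : (k : G) * z = z * k := by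
        have h1 := hk1 ⟨z, f.zK⟩
        change (k : G) * z * (k : G)⁻¹ = v * z * v⁻¹ at h1
        rw [hvz, mul_inv_cancel_right] at h1
        exact mul_inv_eq_iff_eq_mul.1 h1
      have hkx := f.Kx k k.2
      have h2 : (k : G)⁻¹ * v ∈ zpowers q₀ := by
        refine f.CK _ ?_ ?_
        · calc (k : G)⁻¹ * v * x = (k : G)⁻¹ * (x * v) := by rw [mul_assoc, hvx]
            _ = (k : G)⁻¹ * (x * k) * (k : G)⁻¹ * v := by group
            _ = (k : G)⁻¹ * (k * x) * (k : G)⁻¹ * v := by rw [hkx]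
            _ = x * ((k : G)⁻¹ * v) := by group
        · intro l hl
          have h3 := hk1 ⟨l, hl⟩
          change (k : G) * l * (k : G)⁻¹ = v * l * v⁻¹ at h3
          calc (k : G)⁻¹ * v * l = (k : G)⁻¹ * (v * l * v⁻¹) * v := by group
            _ = (k : G)⁻¹ * (k * l * (k : G)⁻¹) * v := by rw [h3]
            _ = l * ((k : G)⁻¹ * v) := by group
      obtain ⟨j, hj⟩ := hCKpow k k.2 hkz
      obtain ⟨q, hq⟩ : ∃ q, q = (k : G)⁻¹ * v := ⟨_, rfl⟩
      rw [← hq] at h2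
      have h3 : v = k * q := by rw [hq, mul_inv_cancel_left]
      rw [h3]
      refine ⟨S.mul_mem (hCK k k.2 hkz) (hQS q h2), j + nQ, ?_⟩
      rw [(show Commute (k : G) q from (hQK q h2 k k.2).symm).mul_pow]
      have h4 : q ^ 2 ^ (j + nQ) = 1 := by
        rw [pow_add, mul_comm, pow_mul, hQpow q h2, one_pow]
      rw [h4, mul_one, pow_add, pow_mul]
      exact A.pow_mem hj _
    have hactc : ∀ v w (hvx : v * x = x * v) (hwx : w * x = x * w)
        (hm : (v * w * v⁻¹ * w⁻¹) * x = x * (v * w * v⁻¹ * w⁻¹)),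
        act K (v * w * v⁻¹ * w⁻¹) (f.norm hm) = act K v (f.norm hvx) * act K w (f.norm hwx) *
          (act K v (f.norm hvx))⁻¹ * (act K w (f.norm hwx))⁻¹ := by
      intro v w hvx hwx hm
      have hinv : ∀ u (hu : u * x = x * u), (act K u (f.norm hu))⁻¹ =
          act K u⁻¹ ((normalizer (K : Set G)).inv_mem (f.norm hu)) := by
        intro u hu
        rw [inv_eq_iff_mul_eq_one, act_mul, act_one_iff]
        intro l _
        rw [mul_inv_cancel, one_mul, mul_one]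
      rw [hinv v hvx, hinv w hwx, act_mul, act_mul, act_mul]
    have hcx : ∀ v, v * x = x * v → (y * v * y⁻¹ * v⁻¹) * x = x * (y * v * y⁻¹ * v⁻¹) := by
      intro v hvx
      have h1 : ∀ u, u * x = x * u ↔ u ∈ centralizer ({x} : Set G) := fun u =>
        mem_centralizer_singleton_iff.symm
      rw [h1] at hvx hyx ⊢
      exact mul_mem (mul_mem (mul_mem hyx hvx) (inv_mem hyx)) (inv_mem hvx)
    have hcz : ∀ v, v * z = z * v → (y * v * y⁻¹ * v⁻¹) * z = z * (y * v * y⁻¹ * v⁻¹) := by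
      intro v hvz
      have h1 : ∀ u, u * z = z * u ↔ u ∈ centralizer ({z} : Set G) := fun u =>
        mem_centralizer_singleton_iff.symm
      rw [h1] at hvz hyz ⊢
      exact mul_mem (mul_mem (mul_mem hyz hvz) (inv_mem hyz)) (inv_mem hvz)
    -- (iv) elements acting on `K` as elements of `PGL`
    have hpgl : ∀ v (hvx : v * x = x * v), v * z = z * v → act K v (f.norm hvx) ∈ R.PGL → v ∈ S := by
      intro v hvx hvz hv
      have h1 : act K (y * v * y⁻¹ * v⁻¹) (f.norm (hcx v hvx)) ∈ L2Aut.Inn K := by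
        rw [hactc y v hyx hvx (hcx v hvx)]
        set α := act K y (f.norm hyx)
        set β := act K v (f.norm hvx)
        by_cases hβ : β ∈ L2Aut.Inn K
        · have h2 : α * β * α⁻¹ ∈ L2Aut.Inn K := by
            obtain ⟨l, hl⟩ := hβ
            rw [← hl, L2Aut.conj_conj]
            exact ⟨_, rfl⟩
          exact mul_mem h2 (inv_mem hβ)
        · refine R.mul_mem_inn ((inferInstance : R.PGL.Normal).conj_mem _ hv α) ?_ (inv_mem hv) (fun h => hβ (inv_mem_iff.1 h))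
          intro h
          apply hβ
          obtain ⟨l, hl⟩ := h
          have h2 : β = α⁻¹ * MulAut.conj l * α⁻¹⁻¹ := by
            rw [show MulAut.conj l = α * β * α⁻¹ from hl]; group
          rw [h2, L2Aut.conj_conj]
          exact ⟨_, rfl⟩
      obtain ⟨h2, j, hj⟩ := hinn _ (hcx v hvx) (hcz v hvz) h1
      exact key v hvx hvz h2 ⟨j, hj⟩
    -- (v) the general case
    have h1 : act K (y * w * y⁻¹ * w⁻¹) (f.norm (hcx w hwx)) ∈ R.PGL := by
      rw [hactc y w hyx hwx (hcx w hwx), R.mem_PGL_iff_fld, map_mul, map_mul, map_mul, map_inv, map_inv,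
        Cfsg.Agent.Lib.AutSL2Out.ringEquiv_comm (R.fld (act K y (f.norm hyx))), mul_inv_cancel_right,
        mul_inv_cancel]
    have h2 := hpgl _ (hcx w hwx) (hcz w hwz) h1
    have h3 : ∃ j : ℕ, (y * w * y⁻¹ * w⁻¹) ^ 2 ^ j ∈ A := by
      obtain ⟨m, hm⟩ : ∃ m, m = y * w * y⁻¹ * w⁻¹ := ⟨_, rfl⟩
      have hmx : m * x = x * m := by rw [hm]; exact hcx w hwx
      have hmz : m * z = z * m := by rw [hm]; exact hcz w hwz
      have h4 : act K m (f.norm hmx) ∈ R.PGL := by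
        rw [act_congr (f.norm hmx) (f.norm (hcx w hwx)) hm]; exact h1
      have hm2x : m * m * x = x * (m * m) := by rw [mul_assoc, hmx, ← mul_assoc, hmx, mul_assoc]
      have hm2z : m * m * z = z * (m * m) := by rw [mul_assoc, hmz, ← mul_assoc, hmz, mul_assoc]
      have h5 : act K (m * m) (f.norm hm2x) ∈ L2Aut.Inn K := by
        have h6 : act K (m * m) (f.norm hm2x) = act K m (f.norm hmx) * act K m (f.norm hmx) :=
          (act_mul _ _).symm
        rw [h6]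
        by_cases hi : act K m (f.norm hmx) ∈ L2Aut.Inn K
        · exact mul_mem hi hi
        · exact R.mul_mem_inn h4 hi h4 hi
      obtain ⟨-, j, hj⟩ := hinn _ hm2x hm2z h5
      refine ⟨j + 1, ?_⟩
      rw [← hm, pow_succ', pow_mul, sq]
      exact hj
    exact (key w hwx hwz h2 h3).2.2

end FrQ

namespace Fr

variable {G : Type*} [Group G] [Finite G] {x z : G} {K : Subgroup G} (f : Fr x z K)

include f

theorem norm {c : G} (hc : c * x = x * c) : c ∈ normalizer (K : Set G) := mem_norm_of (f.Kn c hc)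

omit [Finite G] in
theorem zx : z * x = x * z := f.Kx z f.zK

theorem exists_A {F : Type*} [Field F] [Finite F] (R : L2Aut.Rep F K) :
    ∃ (A : Subgroup G), (∀ a, a ∈ A ↔ a ∈ K ∧ a * z = z * a ∧ Odd (orderOf a)) ∧
      (∃ g ∈ A, ∀ a ∈ A, a ∈ zpowers g) ∧ Odd (Nat.card A) ∧
      (∃ v ∈ K, v * z = z * v ∧ v * v = 1 ∧ v ≠ z ∧ v ≠ 1 ∧ ∀ a ∈ A, v * a * v⁻¹ = a⁻¹) ∧
      (∀ y v, y * x = x * y → v * x = x * v → y * z = z * y → v * z = z * v → Odd (orderOf y) →
        y * v * y⁻¹ * v⁻¹ ∈ A) := f.toQ.exists_A R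

end Fr

end Cfsg.Agent.OddHalf.D6

end

-- merged: Cfsg.Agent.OddHalf.D6.BalSwap
section

/-!
# ODD D6: the end of C1 and of the case `|Q| ≥ 4` (helper419)

`H` finite, `O(H) = 1`, all components of `H` are `≅ PSL(2,F)` (`F` of odd characteristic), `B : Bal x A`,
`T` a Sylow 2-subgroup of `C_H(x)`; every involution of `Z(T)` acts on `H` as `1` or as `x`.

* `exists_unique`: `A ≠ 1` is contained in a component `L` on which `x` acts as an involution `w ∈ L ∩ Z(T)`;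
* `false_of_swap`: if some `s ∈ H` maps `x` to `x c`, `1 ≠ c ∈ Z(H)`, then `A = 1`.
-/

set_option autoImplicit false

open Subgroup Cfsg Cfsg.Agent.GH
open Cfsg.Agent.GH.L2Aut (Four)

namespace Cfsg.Agent.OddHalf.D6.Bal

variable {H : Type*} [Group H] [Finite H] {x : H} {A : Subgroup H} (B : Bal x A)

include B

/-- `A` is contained in one component, which is of type (a) -/
theorem exists_unique (hO : oddCore H = ⊥) (hW : ∀ L : Subgroup H, IsComponent L → IsL2 L)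
    (hA : A ≠ ⊥) {T : Subgroup H} (pT : IsPGroup 2 T) (hTx : ∀ t ∈ T, t * x = x * t)
    (max : ∀ P : Subgroup H, IsPGroup 2 P → T ≤ P → (∀ y ∈ P, y * x = x * y) → P ≤ T)
    (hZ : ∀ v ∈ T, v * v = 1 → v ≠ 1 → (∀ t ∈ T, t * v = v * t) →
      (∀ h, h * v = v * h) ∨ ∃ c, (∀ h, h * c = c * h) ∧ v = x * c) :
    ∃ L : Subgroup H, IsComponent L ∧ IsL2 L ∧ A ≤ L ∧ ∃ w ∈ L, w ∈ T ∧ w ≠ 1 ∧ w * w = 1 ∧
      (∀ l ∈ L, x * l * x⁻¹ = w * l * w⁻¹) ∧ (∀ h, h * x = x * h → h * w = w * h) ∧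
      ∃ c, (∀ h, h * c = c * h) ∧ w = x * c := by
  -- every component meeting `A`
  have key : ∀ L : Subgroup H, IsComponent L → (∃ a ∈ A, a ∈ L ∧ a ≠ 1) →
      ∃ w ∈ L, w ∈ T ∧ w ≠ 1 ∧ w * w = 1 ∧
      (∀ l ∈ L, x * l * x⁻¹ = w * l * w⁻¹) ∧ (∀ h, h * x = x * h → h * w = w * h) ∧
      ∃ c, (∀ h, h * c = c * h) ∧ w = x * c := by
    rintro L hL ⟨a, ha, haL, ha1⟩
    obtain ⟨F, _, _, ⟨R⟩⟩ := hW L hL
    have hx := B.x_norm R hL
    rcases B.types R hx with ⟨w, hw, hw1, hww, hxw⟩ | ⟨-, hb⟩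
    · have hc : ∀ h, h * x = x * h → h * w = w * h := fun h hh =>
        B.inner_central R hL ha haL ha1 hw hxw hh
      obtain ⟨hwT, -⟩ := B.inner_sylow R hL ha haL ha1 hw hw1 hww hxw pT hTx max
      refine ⟨w, hw, hwT, hw1, hww, hxw, hc, ?_⟩
      rcases hZ w hwT hww hw1 (fun t ht => hc t (hTx t ht)) with h | h
      · exact absurd (eq_one_of_central R hw fun m _ => (h m).symm) hw1
      · exact h
    · exfalso
      obtain ⟨v, hvT, hvL, hvv, hv1, hvc, -, hinv⟩ := B.outer_sylow R hL hx hb ha haL ha1 pT hTx max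
      have h1 := hinv a ha haL
      have h2 : v * a * v⁻¹ = a := by
        rw [mul_inv_eq_iff_eq_mul]
        rcases hZ v hvT hvv hv1 hvc with h | ⟨c, hc, rfl⟩
        · exact (h a).symm
        · rw [mul_assoc, ← hc a, ← mul_assoc, ← B.ax a ha, mul_assoc]
      rw [h2] at h1
      apply ha1
      apply B.one_of_sq ha
      nth_rw 1 [h1]
      rw [inv_mul_cancel]
  obtain ⟨L, hL, hLA⟩ := B.exists_comp hO hW hA
  obtain ⟨w, hw, hwT, hw1, hww, hxw, hc, hwc⟩ := key L hL hLA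
  refine ⟨L, hL, hW L hL, ?_, w, hw, hwT, hw1, hww, hxw, hc, hwc⟩
  apply B.le_of_unique hO hW hL
  intro M hM hMA
  by_contra hne
  obtain ⟨w', hw', -, hw1', hww', hxw', -, c, hcc, hwc'⟩ := key M hM hMA
  -- `w' ∈ M` centralises `L`, acts as `x`
  obtain ⟨F, _, _, ⟨R⟩⟩ := hW L hL
  apply hw1
  apply eq_one_of_central R hw
  intro m hm
  have h1 : w' * m = m * w' := SignalizersComponents.OddFixed.commute_of_ne hM hL hne hw' hm
  have h2 : x * m = m * x := by
    have h3 : x * c * m = m * (x * c) := by rw [← hwc']; exact h1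
    have h4 : x * m * c = m * x * c := by
      calc x * m * c = x * (m * c) := by group
        _ = x * (c * m) := by rw [hcc m]
        _ = m * (x * c) := by rw [← mul_assoc, h3]
        _ = m * x * c := by group
    exact mul_right_cancel h4
  have h3 := hxw m hm
  rw [h2, mul_inv_cancel_right] at h3
  rw [eq_mul_inv_iff_mul_eq] at h3
  exact h3.symm

/-- **No swap.** -/
theorem false_of_swap (hO : oddCore H = ⊥) (hW : ∀ L : Subgroup H, IsComponent L → IsL2 L)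
    (hA : A ≠ ⊥) {T : Subgroup H} (pT : IsPGroup 2 T) (hTx : ∀ t ∈ T, t * x = x * t)
    (max : ∀ P : Subgroup H, IsPGroup 2 P → T ≤ P → (∀ y ∈ P, y * x = x * y) → P ≤ T)
    (hZ : ∀ v ∈ T, v * v = 1 → v ≠ 1 → (∀ t ∈ T, t * v = v * t) →
      (∀ h, h * v = v * h) ∨ ∃ c, (∀ h, h * c = c * h) ∧ v = x * c)
    {s z : H} (hz : ∀ h, h * z = z * h) (hz1 : z ≠ 1) (hs : s * x * s⁻¹ = x * z) : False := by
  obtain ⟨L, hL, ⟨F, _, _, ⟨R⟩⟩, hAL, w, hw, -, hw1, hww, hxw, -, c, hc, hwc⟩ :=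
    B.exists_unique hO hW hA pT hTx max hZ
  obtain ⟨a, ha, ha1⟩ := A.bot_or_exists_ne_one.resolve_left hA
  have hn := B.swap_comp R hL hAL ha ha1 hz hs
  have hsn := mem_norm_of hn
  have hn' : ∀ l ∈ L, s⁻¹ * l * s ∈ L := by
    intro l hl
    have := (mem_normalizer_iff.1 (inv_mem hsn) l).1 hl
    rwa [inv_inv] at this
  have h1 := Bal.swap_inner R hz hs hn hn' hw hxw
  rw [hwc] at h1
  have h2 : s * (x * c) * s⁻¹ = x * z * c := by
    calc s * (x * c) * s⁻¹ = s * x * (c * s⁻¹) := by group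
      _ = s * x * (s⁻¹ * c) := by rw [← hc]
      _ = s * x * s⁻¹ * c := by group
      _ = x * z * c := by rw [hs]
  rw [h2, mul_assoc] at h1
  exact hz1 (mul_eq_right.1 (mul_left_cancel h1))

end Cfsg.Agent.OddHalf.D6.Bal

end

-- merged: Cfsg.Agent.OddHalf.D6.SwapG
section

/-!
# ODD D6: `Bal` in `C_G(u)`, and the swap theorem at the level of `G` (helper419)

`BalG x u A`: `x, u` commuting, `A` cyclic of odd order centralised by `x` and `u`, with the properties of `Bal`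
for `C(x) ∩ C(u)`. Used with `u = z` (case C1) and `u = xz` (`|Q| ≥ 4`).
-/

set_option autoImplicit false

open Subgroup Cfsg Cfsg.Agent.GH

namespace Cfsg.Agent.OddHalf.D6

variable {G : Type*} [Group G]

/-- The hypotheses at the level of `G`. -/
structure BalG (x u : G) (A : Subgroup G) : Prop where
  xx : x * x = 1
  xu : x * u = u * x
  odd : Odd (Nat.card A)
  cyc : ∃ g ∈ A, ∀ a ∈ A, a ∈ zpowers g
  ax : ∀ a ∈ A, a * x = x * a
  au : ∀ a ∈ A, a * u = u * a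
  inv : ∃ v, v * x = x * v ∧ v * u = u * v ∧ ∀ a ∈ A, v * a * v⁻¹ = a⁻¹
  res : ∀ y v, y * x = x * y → y * u = u * y → v * x = x * v → v * u = u * v → Odd (orderOf y) →
    y * v * y⁻¹ * v⁻¹ ∈ A

namespace BalG

variable {x u : G} {A : Subgroup G}

theorem x_mem (B : BalG x u A) : x ∈ centralizer ({u} : Set G) :=
  mem_centralizer_singleton_iff.2 B.xu

/-- the element `x` of `C(u)` -/
def x' (B : BalG x u A) : centralizer ({u} : Set G) := ⟨x, B.x_mem⟩

theorem A_le (B : BalG x u A) : A ≤ centralizer ({u} : Set G) :=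
  fun a ha => mem_centralizer_singleton_iff.2 (B.au a ha)

theorem bal (B : BalG x u A) : Bal B.x' (A.subgroupOf (centralizer ({u} : Set G))) where
  xx := Subtype.ext B.xx
  odd := by
    rw [Nat.card_congr (subgroupOfEquivOfLe B.A_le).toEquiv]
    exact B.odd
  cyc := by
    obtain ⟨g, hg, h⟩ := B.cyc
    refine ⟨⟨g, B.A_le hg⟩, by rw [mem_subgroupOf]; exact hg, fun a ha => ?_⟩
    obtain ⟨k, hk⟩ := mem_zpowers_iff.1 (h a (mem_subgroupOf.1 ha))
    exact mem_zpowers_iff.2 ⟨k, Subtype.ext hk⟩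
  ax := fun a ha => Subtype.ext (B.ax a (mem_subgroupOf.1 ha))
  inv := by
    obtain ⟨v, h1, h2, h3⟩ := B.inv
    exact ⟨⟨v, mem_centralizer_singleton_iff.2 h2⟩, Subtype.ext h1,
      fun a ha => Subtype.ext (h3 a (mem_subgroupOf.1 ha))⟩
  res := by
    intro y v hy hv ho
    rw [mem_subgroupOf]
    refine B.res y v (congrArg Subtype.val hy) (mem_centralizer_singleton_iff.1 y.2)
      (congrArg Subtype.val hv) (mem_centralizer_singleton_iff.1 v.2) ?_
    rwa [orderOf_coe]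

/-- a Sylow subgroup of `C(x) ∩ C(u)` in `C(u)` -/
theorem max' (B : BalG x u A) {T : Subgroup G} (hTu : ∀ t ∈ T, t * u = u * t)
    (max : ∀ P : Subgroup G, IsPGroup 2 P → T ≤ P → (∀ y ∈ P, y * x = x * y) →
      (∀ y ∈ P, y * u = u * y) → P ≤ T) :
    ∀ P : Subgroup (centralizer ({u} : Set G)), IsPGroup 2 P →
      T.subgroupOf (centralizer ({u} : Set G)) ≤ P → (∀ y ∈ P, y * B.x' = B.x' * y) →
      P ≤ T.subgroupOf (centralizer ({u} : Set G)) := by
  intro P hP hle hPx p hp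
  have h := max (P.map (Subgroup.subtype _)) (hP.map _) (by
      intro t ht
      have htu : t ∈ centralizer ({u} : Set G) := mem_centralizer_singleton_iff.2 (hTu t ht)
      exact ⟨⟨t, htu⟩, hle (by rw [mem_subgroupOf]; exact ht), rfl⟩)
    (by rintro _ ⟨y, hy, rfl⟩; exact congrArg Subtype.val (hPx y hy))
    (by rintro _ ⟨y, -, rfl⟩; exact mem_centralizer_singleton_iff.1 y.2)
  rw [mem_subgroupOf]
  exact h ⟨p, hp, rfl⟩

/-- **The swap theorem.** `T` a Sylow 2-subgroup of `C(x) ∩ C(u)` with no involutions in its centre except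
`x, u, xu`; `s ∈ C(u)` with `x ^ s = xu`. -/
theorem false_of_swap [Finite G] (B : BalG x u A) (hu1 : u ≠ 1) (hO : oddCore ↥(centralizer ({u} : Set G)) = ⊥)
    (hW : ∀ L : Subgroup ↥(centralizer ({u} : Set G)), IsComponent L → IsL2 L)
    (hA : A ≠ ⊥) {T : Subgroup G} (pT : IsPGroup 2 T) (hTx : ∀ t ∈ T, t * x = x * t)
    (hTu : ∀ t ∈ T, t * u = u * t)
    (max : ∀ P : Subgroup G, IsPGroup 2 P → T ≤ P → (∀ y ∈ P, y * x = x * y) →
      (∀ y ∈ P, y * u = u * y) → P ≤ T)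
    (hZ : ∀ v ∈ T, v * v = 1 → v ≠ 1 → (∀ t ∈ T, t * v = v * t) → v = x ∨ v = u ∨ v = x * u)
    {s : G} (hsu : s * u = u * s) (hs : s * x * s⁻¹ = x * u) : False := by
  have huu : u ∈ centralizer ({u} : Set G) := mem_centralizer_singleton_iff.2 rfl
  have hcen : ∀ h : centralizer ({u} : Set G), h * ⟨u, huu⟩ = ⟨u, huu⟩ * h := fun h =>
    Subtype.ext (mem_centralizer_singleton_iff.1 h.2)
  refine B.bal.false_of_swap hO hW ?_ (T := T.subgroupOf (centralizer ({u} : Set G)))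
    (pT.comap_of_injective _ (Subgroup.subtype_injective _)) ?_ (B.max' hTu max) ?_
    (s := ⟨s, mem_centralizer_singleton_iff.2 hsu⟩) (z := ⟨u, huu⟩) hcen
    (fun h => hu1 (congrArg Subtype.val h)) (Subtype.ext hs)
  · intro h
    apply hA
    rw [subgroupOf_eq_bot] at h
    exact disjoint_self.1 (h.mono_right B.A_le)
  · intro t ht
    exact Subtype.ext (hTx t (mem_subgroupOf.1 ht))
  · intro v hv hvv hv1 hvc
    rcases hZ v (mem_subgroupOf.1 hv) (congrArg Subtype.val hvv) (fun h => hv1 (Subtype.ext h))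
      (fun t ht => congrArg Subtype.val (hvc ⟨t, mem_centralizer_singleton_iff.2 (hTu t ht)⟩
        (by rw [mem_subgroupOf]; exact ht))) with h | h | h
    · right
      exact ⟨1, fun h => by rw [mul_one, one_mul], Subtype.ext (by rw [h]; exact (mul_one x).symm)⟩
    · left
      intro g
      have : v = ⟨u, huu⟩ := Subtype.ext h
      rw [this]; exact hcen g
    · right
      exact ⟨⟨u, huu⟩, hcen, Subtype.ext h⟩

end BalG

end Cfsg.Agent.OddHalf.D6

end

-- merged: Cfsg.Agent.OddHalf.D6.TypeB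
section

/-!
# ODD D6: the components of `C(z)` meeting `A_i = [A, f]` are of type (b) (helper419)

* `Bal.exists_inverted`: some component contains `b ∈ A`, `b ≠ 1`, inverted by `f`;
* `not_inner`: with `TypeA.Base`, `BalG x z A` and `f`: `x` acts on such a component outside `Inn`;
* `exists_typeB`: both.
-/

set_option autoImplicit false

open Subgroup Cfsg Cfsg.Agent.GH

namespace Cfsg.Agent.OddHalf.D6

/-- transport of a representation -/
def repCongr {F L L' : Type*} [Field F] [Group L] [Group L'] (R : L2Aut.Rep F L) (e : L ≃* L') :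
    L2Aut.Rep F L' where
  π := e.toMonoidHom.comp R.π
  surj := e.surjective.comp R.surj
  ker := fun x => by
    rw [← R.ker]
    change e (R.π x) = 1 ↔ _
    rw [map_eq_one_iff e e.injective]
  two := R.two

theorem IsL2.congr {L L' : Type*} [Group L] [Group L'] (h : IsL2 L) (e : L ≃* L') : IsL2 L' := by
  obtain ⟨F, i1, i2, ⟨R⟩⟩ := h
  exact ⟨F, i1, i2, ⟨repCongr R e⟩⟩

namespace Bal

variable {H : Type*} [Group H] [Finite H] {x : H} {A : Subgroup H} (B : Bal x A)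

include B

/-- some component contains a nontrivial element of `A` inverted by `f` -/
theorem exists_inverted (hO : oddCore H = ⊥) (hW : ∀ L : Subgroup H, IsComponent L → IsL2 L)
    {f a : H} (hf : f * x = x * f) (ha : a ∈ A) (ha1 : a ≠ 1) (hfa : f * a * f⁻¹ = a⁻¹) :
    ∃ L : Subgroup H, IsComponent L ∧ ∃ b ∈ A, b ∈ L ∧ b ≠ 1 ∧ f * b * f⁻¹ = b⁻¹ := by
  by_contra hcon
  push Not at hcon
  apply ha1
  refine B.eq_one_of_comm hO ha fun L hL => ?_
  obtain ⟨F, _, _, ⟨R⟩⟩ := hW L hL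
  obtain ⟨b, hbA, hbL, hb⟩ := B.decomp R hL ha
  by_cases hb1 : b = 1
  · rw [hb1, inv_one, one_mul] at hb
    exact hb
  exfalso
  apply hcon L hL b hbA hbL hb1
  have hfL := B.norm_of_mem R hL hbA hbL hb1 hf
  have hfL' := B.norm_of_mem R hL hbA hbL hb1 (h := f⁻¹) (by
    rw [inv_mul_eq_iff_eq_mul, ← mul_assoc, hf, mul_inv_cancel_right])
  rw [inv_inv] at hfL'
  set c := b⁻¹ * a with hc
  have hcA : c ∈ A := mul_mem (inv_mem hbA) ha
  have hac : a = b * c := by rw [hc]; group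
  -- `b (f b f⁻¹)` centralises `L`
  have h1 : f * b * f⁻¹ * (f * c * f⁻¹) = b⁻¹ * c⁻¹ := by
    calc f * b * f⁻¹ * (f * c * f⁻¹) = f * (b * c) * f⁻¹ := by group
      _ = (b * c)⁻¹ := by rw [← hac, hfa]
      _ = b⁻¹ * c⁻¹ := by
        rw [mul_inv_rev, B.ab _ (inv_mem hcA) _ (inv_mem hbA)]
  have h2 : b * (f * b * f⁻¹) = c⁻¹ * (f * c * f⁻¹)⁻¹ := by
    rw [eq_mul_inv_iff_mul_eq, mul_assoc, h1]; group
  have hfc : ∀ m ∈ L, (f * c * f⁻¹) * m = m * (f * c * f⁻¹) := by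
    intro m hm
    have h3 := hb (f⁻¹ * m * f) (hfL' m hm)
    calc f * c * f⁻¹ * m = f * (c * (f⁻¹ * m * f)) * f⁻¹ := by group
      _ = f * (f⁻¹ * m * f * c) * f⁻¹ := by rw [h3]
      _ = m * (f * c * f⁻¹) := by group
  have h3 : b * (f * b * f⁻¹) = 1 := by
    apply eq_one_of_central R (mul_mem hbL (hfL b hbL))
    intro m hm
    rw [h2]
    have e1 : Commute c m := hb m hm
    have e2 : Commute (f * c * f⁻¹) m := hfc m hm
    exact (e1.inv_left.mul_left e2.inv_left).eq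
  exact (eq_inv_of_mul_eq_one_right h3)

end Bal

variable {G : Type*} [Group G]

/-- A component of `C(z)` containing `b ∈ A`, `b ≠ 1`, inverted by `f` is of type (b). -/
theorem not_inner [Finite G] {x z : G} {T K A : Subgroup G} (B : TypeA.Base x z T K)
    (BG : BalG x z A)
    (hD : ∀ v ∈ T, v ∈ K → v * v = 1 → v ≠ 1 → v ≠ z → ∀ a ∈ A, v * a * v⁻¹ = a⁻¹) {f : G}
    (hZ : ∀ v ∈ T, v * v = 1 → v ≠ 1 → (∀ t ∈ T, t * v = v * t) → v = x ∨ v = z ∨ v = x * z ∨
      ∀ a ∈ A, f * a * f⁻¹ = a⁻¹ → v * a * v⁻¹ = a⁻¹)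
    {L : Subgroup (centralizer ({z} : Set G))} (hL : IsComponent L) (hL2 : IsL2 L)
    {b : centralizer ({z} : Set G)} (hbA : (b : G) ∈ A) (hbL : b ∈ L) (hb1 : b ≠ 1)
    (hfb : f * (b : G) * f⁻¹ = (b : G)⁻¹)
    (hx : BG.x' ∈ normalizer (L : Set (centralizer ({z} : Set G)))) :
    act L BG.x' hx ∉ L2Aut.Inn L := by
  intro hi
  obtain ⟨F, _, _, ⟨R⟩⟩ := hL2
  have hTz := B.cz
  have hbA' : b ∈ A.subgroupOf (centralizer ({z} : Set G)) := by rw [mem_subgroupOf]; exact hbA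
  rcases BG.bal.types R hx with ⟨w, hw, hw1, hww, hxw⟩ | ⟨-, h⟩
  swap
  · exact h hi
  have hc := fun h hh => BG.bal.inner_central R hL hbA' hbL hb1 hw hxw (h := h) hh
  have pT' : IsPGroup 2 (T.subgroupOf (centralizer ({z} : Set G))) :=
    B.pT.comap_of_injective _ (Subgroup.subtype_injective _)
  have hTx' : ∀ t ∈ T.subgroupOf (centralizer ({z} : Set G)), t * BG.x' = BG.x' * t := by
    intro t ht
    exact Subtype.ext (B.cx t (mem_subgroupOf.1 ht))
  have hmax' := BG.max' (T := T) hTz (fun P hP hle hPx _ => B.max P hP hle hPx)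
  obtain ⟨hwT, hsyl⟩ := BG.bal.inner_sylow R hL hbA' hbL hb1 hw hw1 hww hxw pT' hTx' hmax'
  have hwT' : (w : G) ∈ T := mem_subgroupOf.1 hwT
  have hTle : T ≤ centralizer ({z} : Set G) := fun t ht => mem_centralizer_singleton_iff.2 (hTz t ht)
  have hwc : ∀ t ∈ T, t * (w : G) = w * t := by
    intro t ht
    exact congrArg Subtype.val (hc ⟨t, hTle ht⟩ (Subtype.ext (B.cx t ht)))
  have hww' : (w : G) * w = 1 := congrArg Subtype.val hww
  have hw1' : (w : G) ≠ 1 := fun h => hw1 (Subtype.ext h)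
  have hmem : ∀ g : G, g ∈ L.map (Subgroup.subtype _) ↔ ∃ h : g ∈ centralizer ({z} : Set G), ⟨g, h⟩ ∈ L := by
    intro g
    constructor
    · rintro ⟨l, hl, rfl⟩
      exact ⟨l.2, hl⟩
    · rintro ⟨h, hl⟩
      exact ⟨⟨g, h⟩, hl, rfl⟩
  -- `w ∈ {x, xz}`
  have hb2 : (b : G) * b ≠ 1 := by
    intro h
    exact hb1 (BG.bal.one_of_sq hbA' (Subtype.ext h))
  have hw' : (w : G) = x ∨ (w : G) = x * z := by
    rcases hZ w hwT' hww' hw1' hwc with h | h | h | h
    · exact Or.inl h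
    · exfalso
      apply hw1
      apply Bal.eq_one_of_central R hw
      intro m _
      apply Subtype.ext
      show (w : G) * m = m * w
      rw [h]
      exact (mem_centralizer_singleton_iff.1 m.2).symm
    · exact Or.inr h
    · exfalso
      have h1 := h b hbA hfb
      have h2 : (b : G) * w = w * b :=
        congrArg Subtype.val (hc b (Subtype.ext (BG.ax b hbA)))
      rw [← h2, mul_inv_cancel_right] at h1
      apply hb2
      nth_rw 1 [h1]
      rw [inv_mul_cancel]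
  refine B.false_of_over (L := L.map (Subgroup.subtype _)) (w := (w : G)) ?_ hw'
  refine
    { Lz := ?_
      TL := ?_
      wL := ⟨w, hw, rfl⟩
      ww := hww'
      w1 := hw1'
      wx := ?_
      iso := ⟨F, _, inferInstance,
        ⟨repCongr R (L.equivMapOfInjective _ (Subgroup.subtype_injective _))⟩⟩
      syl := ?_
      inv := ?_ }
  · rintro _ ⟨l, -, rfl⟩
    exact mem_centralizer_singleton_iff.1 l.2
  · rintro t ht _ ⟨l, hl, rfl⟩
    exact ⟨_, BG.bal.norm_of_mem R hL hbA' hbL hb1 (h := ⟨t, hTle ht⟩)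
      (Subtype.ext (B.cx t ht)) l hl, rfl⟩
  · rintro _ ⟨l, hl, rfl⟩
    exact congrArg Subtype.val (hxw l hl)
  · intro P hP hle hPL p hp
    have hPz : P ≤ centralizer ({z} : Set G) := by
      intro q hq
      obtain ⟨l, -, rfl⟩ := hPL hq
      exact l.2
    have h1 := hsyl (P.subgroupOf (centralizer ({z} : Set G)))
      (hP.comap_of_injective _ (Subgroup.subtype_injective _)) (by
        intro y hy
        rw [mem_subgroupOf]
        exact hle ⟨mem_subgroupOf.1 hy.1, ⟨y, hy.2, rfl⟩⟩) (by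
        intro y hy
        obtain ⟨l, hl, he⟩ := hPL (mem_subgroupOf.1 hy)
        have : l = y := Subtype.ext he
        rw [← this]; exact hl)
    exact mem_subgroupOf.1 (h1 (x := ⟨p, hPz hp⟩) (by rw [mem_subgroupOf]; exact hp))
  · intro v hvT hvK hvv hv1 hvz
    exact ⟨b, ⟨b, hbL, rfl⟩, hb2, BG.ax b hbA, hD v hvT hvK hvv hv1 hvz b hbA⟩

/-- There is a component of type (b) containing `b ∈ A`, `b ≠ 1`, inverted by `f`. -/
theorem exists_typeB [Finite G] {x z : G} {T K A : Subgroup G} (B : TypeA.Base x z T K)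
    (BG : BalG x z A) (hO : oddCore ↥(centralizer ({z} : Set G)) = ⊥)
    (hW : ∀ L : Subgroup ↥(centralizer ({z} : Set G)), IsComponent L → IsL2 L)
    (hD : ∀ v ∈ T, v ∈ K → v * v = 1 → v ≠ 1 → v ≠ z → ∀ a ∈ A, v * a * v⁻¹ = a⁻¹) {f : G}
    (hfT : f ∈ T)
    (hZ : ∀ v ∈ T, v * v = 1 → v ≠ 1 → (∀ t ∈ T, t * v = v * t) → v = x ∨ v = z ∨ v = x * z ∨
      ∀ a ∈ A, f * a * f⁻¹ = a⁻¹ → v * a * v⁻¹ = a⁻¹)
    {a : G} (ha : a ∈ A) (ha1 : a ≠ 1) (hfa : f * a * f⁻¹ = a⁻¹) :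
    ∃ L : Subgroup (centralizer ({z} : Set G)), IsComponent L ∧ IsL2 L ∧
      ∃ b ∈ A.subgroupOf (centralizer ({z} : Set G)), b ∈ L ∧ b ≠ 1 ∧ f * (b : G) * f⁻¹ = (b : G)⁻¹ ∧
      ∀ hx : BG.x' ∈ normalizer (L : Set (centralizer ({z} : Set G))), act L BG.x' hx ∉ L2Aut.Inn L := by
  have hfz : f ∈ centralizer ({z} : Set G) := mem_centralizer_singleton_iff.2 (B.cz f hfT)
  obtain ⟨L, hL, b, hbA, hbL, hb1, hfb⟩ := BG.bal.exists_inverted hO hW (f := ⟨f, hfz⟩)
    (a := ⟨a, BG.A_le ha⟩) (Subtype.ext (B.cx f hfT)) (by rw [mem_subgroupOf]; exact ha)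
    (fun h => ha1 (congrArg Subtype.val h)) (Subtype.ext hfa)
  have hfb' : f * (b : G) * f⁻¹ = (b : G)⁻¹ := congrArg Subtype.val hfb
  refine ⟨L, hL, hW L hL, b, hbA, hbL, hb1, hfb', fun hx => ?_⟩
  exact not_inner B BG hD hZ hL (hW L hL) (mem_subgroupOf.1 hbA) hbL hb1 hfb' hx

end Cfsg.Agent.OddHalf.D6

end

-- merged: Cfsg.Agent.OddHalf.D6.BalG
section

/-!
# ODD D6: the components of `C(z)` and of `C(xz)` meeting `A₀ = O(C_K(z))`, at the level of `G`

`f : FrQ x z q₀ K` (`Fr.toQ` for `Q = ⟨x⟩`), `A0 z K`, `z'` with `C(x) ∩ C(z') = C(x) ∩ C(z)` (`z' = z` or `z' = x z`).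
-/

set_option autoImplicit false

open Subgroup Cfsg Cfsg.Agent.GH
open Cfsg.Agent.GH.L2Aut (Four)

namespace Cfsg.Agent.OddHalf.D6

/-- `O(C_K(z))` -/
def A0 {G : Type*} [Group G] (z : G) (K : Subgroup G) : Subgroup G :=
  closure {a | a ∈ K ∧ a * z = z * a ∧ Odd (orderOf a)}

/-- `L` is a component of `C(z)` -/
def Comp {G : Type*} [Group G] (z : G) (L : Subgroup G) : Prop :=
  ∃ L' : Subgroup ↥(centralizer ({z} : Set G)), IsComponent L' ∧
    L'.map (centralizer ({z} : Set G)).subtype = L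

/-- all components of `C(z)` are `PSL(2,F)`'s of odd characteristic, and `O(C(z)) = 1` -/
structure World {G : Type*} [Group G] (z : G) : Prop where
  core : oddCore ↥(centralizer ({z} : Set G)) = ⊥
  comp : ∀ L : Subgroup G, Comp z L → IsL2 L

theorem mem_cent {G : Type*} [Group G] {z g : G} :
    g ∈ centralizer ({z} : Set G) ↔ g * z = z * g := mem_centralizer_singleton_iff

theorem Comp.comm {G : Type*} [Group G] {z : G} {L : Subgroup G} (h : Comp z L) :
    ∀ l ∈ L, l * z = z * l := by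
  obtain ⟨L', -, rfl⟩ := h
  rintro _ ⟨l, -, rfl⟩
  exact mem_cent.1 l.2

theorem World.comp' {G : Type*} [Group G] {z : G} (W : World z) :
    ∀ L : Subgroup ↥(centralizer ({z} : Set G)), IsComponent L → IsL2 L := by
  intro L hL
  exact (W.comp _ ⟨L, hL, rfl⟩).congr
    (L.equivMapOfInjective _ (centralizer ({z} : Set G)).subtype_injective).symm

namespace FrQ

variable {G : Type*} [Group G] [Finite G] {x z q₀ : G} {K : Subgroup G} (f : FrQ x z q₀ K)
  {F : Type*} [Field F] [Finite F] (R : L2Aut.Rep F K)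

include f R

theorem A0_data : (∀ a, a ∈ A0 z K ↔ a ∈ K ∧ a * z = z * a ∧ Odd (orderOf a)) ∧
      (∃ g ∈ A0 z K, ∀ a ∈ A0 z K, a ∈ zpowers g) ∧ Odd (Nat.card (A0 z K)) ∧
      (∃ v ∈ K, v * z = z * v ∧ v * v = 1 ∧ v ≠ z ∧ v ≠ 1 ∧ ∀ a ∈ A0 z K, v * a * v⁻¹ = a⁻¹) ∧
      (∀ y v, y * x = x * y → v * x = x * v → y * z = z * y → v * z = z * v → Odd (orderOf y) →
        y * v * y⁻¹ * v⁻¹ ∈ A0 z K) := by
  obtain ⟨A, hA, h⟩ := f.exists_A R
  have h1 : A0 z K = A := by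
    apply le_antisymm
    · rw [A0, closure_le]
      intro a ha
      exact (hA a).2 ha
    · intro a ha
      exact subset_closure ((hA a).1 ha)
  rw [h1]
  exact ⟨hA, h⟩

theorem mem_A0 {a : G} : a ∈ A0 z K ↔ a ∈ K ∧ a * z = z * a ∧ Odd (orderOf a) := (f.A0_data R).1 a

theorem A0_norm {a c : G} (ha : a ∈ A0 z K) (hcx : c * x = x * c) (hcz : c * z = z * c) :
    c * a * c⁻¹ ∈ A0 z K := by
  obtain ⟨h1, h2, h3⟩ := (f.mem_A0 R).1 ha
  refine (f.mem_A0 R).2 ⟨f.Kn c hcx a h1, ?_, ?_⟩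
  · calc c * a * c⁻¹ * z = c * a * c⁻¹ * (z * c) * c⁻¹ := by group
      _ = c * a * c⁻¹ * (c * z) * c⁻¹ := by rw [hcz]
      _ = c * (a * z) * c⁻¹ := by group
      _ = (c * z) * a * c⁻¹ := by rw [h2]; group
      _ = z * (c * a * c⁻¹) := by rw [hcz]; group
  · have h4 : orderOf (c * a * c⁻¹) = orderOf a :=
      orderOf_injective (MulAut.conj c).toMonoidHom (MulAut.conj c).injective a
    rw [h4]; exact h3

/-- involutions of `C_K(z)` other than `z` invert `A₀` -/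
theorem inv_A0 {v : G} (hv : v ∈ K) (hvz : v * z = z * v) (hvv : v * v = 1) (hv1 : v ≠ 1)
    (hvne : v ≠ z) : ∀ a ∈ A0 z K, v * a * v⁻¹ = a⁻¹ := by
  have hz1' : (⟨z, f.zK⟩ : K) ≠ 1 := fun h => f.z1 (congrArg Subtype.val h)
  have hzz' : (⟨z, f.zK⟩ : K) * ⟨z, f.zK⟩ = 1 := Subtype.ext f.zz
  obtain ⟨T, A', -, hAT, -, -, hA, -, huniq, hout, -⟩ := exists_oddPart R hz1' hzz'
  intro a ha
  obtain ⟨h1, h2, h3⟩ := (f.mem_A0 R).1 ha
  have haA : (⟨a, h1⟩ : K) ∈ A' := (hA _).2 ⟨Subtype.ext h2, by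
    rw [← Subgroup.orderOf_coe]; exact h3⟩
  have hvT : (⟨v, hv⟩ : K) ∉ T := by
    intro h
    rcases huniq _ h (Subtype.ext hvv) with h4 | h4
    · exact hv1 (congrArg Subtype.val h4)
    · exact hvne (congrArg Subtype.val h4)
  exact congrArg Subtype.val ((hout ⟨v, hv⟩ (Subtype.ext hvz) hvT).2 _ (hAT haA))

variable {z' : G} (hz' : ∀ c, c * x = x * c → (c * z' = z' * c ↔ c * z = z * c))

include hz'

omit [Finite G] R [Field F] [Finite F] in
/-- the subgroup `C(z')` contains `x` and `A₀` -/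
theorem x_mem : x ∈ centralizer ({z'} : Set G) := mem_cent.2 ((hz' x rfl).2 f.zx.symm)

theorem A0_le : A0 z K ≤ centralizer ({z'} : Set G) := fun a ha =>
  mem_cent.2 ((hz' a (f.Kx a ((f.mem_A0 R).1 ha).1)).2 ((f.mem_A0 R).1 ha).2.1)

theorem bal : Bal (⟨x, f.x_mem hz'⟩ : ↥(centralizer ({z'} : Set G)))
    ((A0 z K).subgroupOf (centralizer ({z'} : Set G))) := by
  obtain ⟨hmem, ⟨g, hg, hgen⟩, hodd, ⟨v, hvK, hvz, hvv, -, -, hinv⟩, hres⟩ := f.A0_data R
  have hle := f.A0_le R hz'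
  have hz'' : ∀ c : ↥(centralizer ({z'} : Set G)), (c : G) * x = x * c → (c : G) * z = z * c :=
    fun c hc => (hz' c hc).1 (mem_cent.1 c.2)
  refine ⟨Subtype.ext f.xx, ?_, ⟨⟨g, hle hg⟩, hg, ?_⟩, ?_, ?_, ?_⟩
  · rw [Nat.card_congr (subgroupOfEquivOfLe hle).toEquiv]
    exact hodd
  · rintro ⟨a, ha'⟩ ha
    obtain ⟨k, hk⟩ := mem_zpowers_iff.1 (hgen a ha)
    exact mem_zpowers_iff.2 ⟨k, Subtype.ext hk⟩
  · rintro ⟨a, ha'⟩ ha
    exact Subtype.ext (f.Kx a ((hmem a).1 ha).1)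
  · refine ⟨⟨v, mem_cent.2 ((hz' v (f.Kx v hvK)).2 hvz)⟩, Subtype.ext (f.Kx v hvK), ?_⟩
    rintro ⟨a, ha'⟩ ha
    exact Subtype.ext (hinv a ha)
  · intro y w hy hw ho
    have hy' : (y : G) * x = x * y := congrArg Subtype.val hy
    have hw' : (w : G) * x = x * w := congrArg Subtype.val hw
    exact hres y w hy' hw' (hz'' y hy') (hz'' w hw') (by rw [Subgroup.orderOf_coe]; exact ho)

/-- helper419's `BalG` -/
theorem balG : BalG x z' (A0 z K) := by
  obtain ⟨hmem, hcyc, hodd, ⟨v, hvK, hvz, hvv, -, -, hinv⟩, hres⟩ := f.A0_data R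
  exact
    { xx := f.xx
      xu := mem_cent.1 (f.x_mem hz')
      odd := hodd
      cyc := hcyc
      ax := fun a ha => f.Kx a ((hmem a).1 ha).1
      au := fun a ha => mem_cent.1 (f.A0_le R hz' ha)
      inv := ⟨v, f.Kx v hvK, (hz' v (f.Kx v hvK)).2 hvz, hinv⟩
      res := fun y w hyx hyz hwx hwz ho =>
        hres y w hyx hwx ((hz' y hyx).1 hyz) ((hz' w hwx).1 hwz) ho }

variable (W : World z')

include W

/-- every `a ∈ A₀` of prime order lies in a component of `C(z')` -/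
theorem exists_comp {a : G} (ha : a ∈ A0 z K) (hp : (orderOf a).Prime) : ∃ L, Comp z' L ∧ a ∈ L := by
  have B := f.bal R hz'
  obtain ⟨a', ha'⟩ : ∃ a' : ↥(centralizer ({z'} : Set G)), (a' : G) = a := ⟨⟨a, f.A0_le R hz' ha⟩, rfl⟩
  have haA : a' ∈ (A0 z K).subgroupOf (centralizer ({z'} : Set G)) := by
    change (a' : G) ∈ A0 z K
    rw [ha']; exact ha
  have hord : orderOf a' = orderOf a := by rw [← ha', Subgroup.orderOf_coe]
  have ha1 : a' ≠ 1 := by
    intro h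
    rw [h, orderOf_one] at hord
    rw [← hord] at hp
    exact Nat.not_prime_one hp
  -- a component not centralised by `a`
  obtain ⟨L, hL, hLa⟩ : ∃ L : Subgroup ↥(centralizer ({z'} : Set G)), IsComponent L ∧
      ¬ ∀ l ∈ L, a' * l = l * a' := by
    by_contra hcon
    push Not at hcon
    exact ha1 (B.eq_one_of_comm W.core haA hcon)
  obtain ⟨F', _, _, ⟨R'⟩⟩ := W.comp' L hL
  obtain ⟨b, hbA, hbL, hb⟩ := B.decomp R' hL haA
  refine ⟨_, ⟨L, hL, rfl⟩, a', ?_, ha'⟩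
  -- `a ∈ ⟨b⟩`
  have hcomm : Commute b (b⁻¹ * a') := (hb b hbL).symm
  have hp' : a' ^ orderOf a = 1 := by rw [← hord, pow_orderOf_eq_one]
  have h1 : b ^ orderOf a * (b⁻¹ * a') ^ orderOf a = 1 := by
    rw [← hcomm.mul_pow, mul_inv_cancel_left, hp']
  have h2 : b ^ orderOf a = 1 := by
    refine Bal.eq_one_of_central R' (L.pow_mem hbL _) fun m hm => ?_
    have h3 : b ^ orderOf a = ((b⁻¹ * a') ^ orderOf a)⁻¹ := eq_inv_of_mul_eq_one_left h1
    rw [h3]
    exact ((show Commute (b⁻¹ * a') m from hb m hm).pow_left _).inv_left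
  have hb1 : b ≠ 1 := by
    intro h
    apply hLa
    rw [h, inv_one, one_mul] at hb
    exact hb
  -- both `a` and `b` have order `p` in a cyclic group
  have hob : orderOf b = orderOf a := by
    rcases (Nat.dvd_prime hp).1 (orderOf_dvd_of_pow_eq_one h2) with h | h
    · exact absurd (orderOf_eq_one_iff.1 h) hb1
    · exact h
  obtain ⟨g, hg, hgen⟩ := B.cyc
  have h4 : zpowers a' = zpowers b := by
    have hcyc : IsCyclic (zpowers g) := inferInstance
    have e : ∀ y : zpowers g, orderOf y = orderOf (y : ↥(centralizer ({z'} : Set G))) := fun y =>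
      (Subgroup.orderOf_coe y).symm
    have h5 := Cfsg.Agent.TwoFusion.CyclicAut.zpowers_eq_of_orderOf_eq
      (⟨a', hgen a' haA⟩ : zpowers g) ⟨b, hgen b hbA⟩
      (by rw [e, e]; exact hord.trans hob.symm)
    have h6 := congrArg (Subgroup.map (zpowers g).subtype) h5
    rw [MonoidHom.map_zpowers, MonoidHom.map_zpowers] at h6
    exact h6
  have h5 : a' ∈ zpowers b := by rw [← h4]; exact mem_zpowers a'
  exact (zpowers_le.2 hbL) h5


/-- `a = b (b⁻¹ a)`, `b ∈ A₀ ∩ L`, `b⁻¹ a` centralises `L` -/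
theorem decomp {L : Subgroup G} (hL : Comp z' L) {a : G} (ha : a ∈ A0 z K) :
    ∃ b ∈ A0 z K, b ∈ L ∧ ∀ l ∈ L, b⁻¹ * a * l = l * (b⁻¹ * a) := by
  obtain ⟨L', hL', rfl⟩ := hL
  obtain ⟨F', _, _, ⟨R'⟩⟩ := W.comp' L' hL'
  obtain ⟨b, hbA, hbL, hb⟩ := (f.bal R hz').decomp R' hL' (a := ⟨a, f.A0_le R hz' ha⟩) ha
  refine ⟨b, hbA, ⟨b, hbL, rfl⟩, ?_⟩
  rintro _ ⟨l, hl, rfl⟩
  exact congrArg Subtype.val (hb l hl)

/-- `C(x) ∩ C(z)` normalises a component meeting `A₀` -/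
theorem norm_comp {L : Subgroup G} (hL : Comp z' L) {a : G} (ha : a ∈ A0 z K) (haL : a ∈ L)
    (ha1 : a ≠ 1) {c : G} (hcx : c * x = x * c) (hcz : c * z = z * c) :
    ∀ l ∈ L, c * l * c⁻¹ ∈ L := by
  obtain ⟨L', hL', rfl⟩ := hL
  obtain ⟨F', _, _, ⟨R'⟩⟩ := W.comp' L' hL'
  obtain ⟨a', haL', rfl⟩ := haL
  rintro _ ⟨l, hl, rfl⟩
  have h1 := (f.bal R hz').norm_of_mem R' hL' (a := a') ha haL'
    (fun h => ha1 (by rw [h]; rfl))
    (h := ⟨c, mem_cent.2 ((hz' c hcx).2 hcz)⟩) (Subtype.ext hcx) l hl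
  exact ⟨_, h1, rfl⟩

/-- the elements of odd order of `C_L(x)` lie in `A₀`, for every component `L` of `C(z')` -/
theorem odd_mem {L : Subgroup G} (hL : Comp z' L) {y : G} (hy : y ∈ L) (hyx : y * x = x * y)
    (ho : Odd (orderOf y)) : y ∈ A0 z K := by
  obtain ⟨L', hL', rfl⟩ := hL
  obtain ⟨F', _, _, ⟨R'⟩⟩ := W.comp' L' hL'
  obtain ⟨y', hy', rfl⟩ := hy
  have B := f.bal R hz'
  obtain ⟨C, v, -, -, -, -, -, -, -, -, h⟩ := B.cent_data R' (B.x_norm R' hL')
  exact (h ⟨y', hy'⟩ (Subtype.ext hyx) (by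
    change Odd (orderOf y')
    rw [← Subgroup.orderOf_coe]; exact ho)).2

/-- `x` normalises every component of `C(z')` -/
theorem x_norm_comp {L : Subgroup G} (hL : Comp z' L) : ∀ l ∈ L, x * l * x⁻¹ ∈ L := by
  obtain ⟨L', hL', rfl⟩ := hL
  obtain ⟨F', _, _, ⟨R'⟩⟩ := W.comp' L' hL'
  rintro _ ⟨l, hl, rfl⟩
  exact ⟨_, (f.bal R hz').norm_comp R' hL' l hl, rfl⟩

/-- the two types -/
theorem types {L : Subgroup G} (hL : Comp z' L) {a : G} (ha : a ∈ A0 z K) (haL : a ∈ L)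
    (ha1 : a ≠ 1) {T : Subgroup G} (pT : IsPGroup 2 T) (Tx : ∀ t ∈ T, t * x = x * t)
    (Tz : ∀ t ∈ T, t * z = z * t)
    (max : ∀ P : Subgroup G, IsPGroup 2 P → T ≤ P → (∀ y ∈ P, y * x = x * y) → P ≤ T) :
    (∃ w ∈ L, w ∈ T ∧ w ≠ 1 ∧ w * w = 1 ∧ (∀ l ∈ L, x * l * x⁻¹ = w * l * w⁻¹) ∧
        (∀ c, c * x = x * c → c * z = z * c → c * w = w * c) ∧
        (∀ P : Subgroup G, IsPGroup 2 P → T ⊓ L ≤ P → P ≤ L → P ≤ T)) ∨
      (∃ v ∈ L, v ∈ T ∧ v ≠ 1 ∧ v * v = 1 ∧ (∀ t ∈ T, t * v = v * t) ∧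
        (∀ u ∈ T, u ∈ L → u = 1 ∨ u = v) ∧ (∀ a ∈ A0 z K, a ∈ L → v * a * v⁻¹ = a⁻¹) ∧
        ¬ ∃ w ∈ L, ∀ l ∈ L, x * l * x⁻¹ = w * l * w⁻¹) := by
  have B := f.bal R hz'
  have hLT := fun c hcx hcz => f.norm_comp R hz' W hL ha haL ha1 (c := c) hcx hcz
  obtain ⟨L', hL', rfl⟩ := hL
  obtain ⟨F', _, _, ⟨R'⟩⟩ := W.comp' L' hL'
  obtain ⟨a', haL', rfl⟩ := haL
  have ha1' : a' ≠ 1 := fun h => ha1 (by rw [h]; rfl)
  have hx := B.x_norm R' hL'
  have Tz' : T ≤ centralizer ({z'} : Set G) := fun t ht => mem_cent.2 ((hz' t (Tx t ht)).2 (Tz t ht))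
  set H : Subgroup G := centralizer ({z'} : Set G) with hH
  have pT' : IsPGroup 2 (T.subgroupOf H) := pT.comap_subtype
  have Tx' : ∀ t ∈ T.subgroupOf H, t * (⟨x, f.x_mem hz'⟩ : H) = ⟨x, f.x_mem hz'⟩ * t :=
    fun t ht => Subtype.ext (Tx t ht)
  have max' : ∀ P : Subgroup H, IsPGroup 2 P → T.subgroupOf H ≤ P →
      (∀ y ∈ P, y * (⟨x, f.x_mem hz'⟩ : H) = ⟨x, f.x_mem hz'⟩ * y) → P ≤ T.subgroupOf H := by
    intro P hP hTP hPx y hy
    have h1 : P.map H.subtype ≤ T := by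
      refine max _ (hP.map _) ?_ ?_
      · intro t ht
        exact ⟨⟨t, Tz' ht⟩, hTP ht, rfl⟩
      · rintro _ ⟨y, hy, rfl⟩
        exact congrArg Subtype.val (hPx y hy)
    exact h1 ⟨y, hy, rfl⟩
  rcases B.types R' hx with ⟨w, hw, hw1, hww, hwx⟩ | ⟨-, hb⟩
  · left
    obtain ⟨hwT, hsyl⟩ := B.inner_sylow R' hL' ha haL' ha1' hw hw1 hww hwx pT' Tx' max'
    refine ⟨w, ⟨w, hw, rfl⟩, hwT, fun h => hw1 (Subtype.ext h), congrArg Subtype.val hww, ?_, ?_, ?_⟩
    · rintro _ ⟨l, hl, rfl⟩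
      exact congrArg Subtype.val (hwx l hl)
    · intro c hcx hcz
      exact congrArg Subtype.val (B.inner_central R' hL' ha haL' ha1' hw hwx
        (h := ⟨c, mem_cent.2 ((hz' c hcx).2 hcz)⟩) (Subtype.ext hcx))
    · intro P hP hTP hPL y hy
      have h1 : P.subgroupOf H ≤ T.subgroupOf H := by
        refine hsyl _ hP.comap_subtype ?_ ?_
        · rintro t ⟨ht, htL⟩
          exact hTP ⟨ht, ⟨t, htL, rfl⟩⟩
        · rintro t ht
          obtain ⟨l, hl, hlt⟩ := hPL ht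
          rw [← show l = t from Subtype.ext hlt]
          exact hl
      obtain ⟨l, hl, rfl⟩ := hPL hy
      exact h1 (show l ∈ P.subgroupOf H from hy)
  · right
    obtain ⟨v, hvT, hvL, hvv, hv1, hvc, hvu, hvi⟩ :=
      B.outer_sylow R' hL' hx hb ha haL' ha1' pT' Tx' max'
    refine ⟨v, ⟨v, hvL, rfl⟩, hvT, fun h => hv1 (Subtype.ext h), congrArg Subtype.val hvv, ?_, ?_, ?_, ?_⟩
    · intro t ht
      exact congrArg Subtype.val (hvc ⟨t, Tz' ht⟩ ht)
    · rintro _ hu ⟨u, huL, rfl⟩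
      rcases hvu u hu huL with h | h
      · left; rw [h]; rfl
      · right; rw [h]; rfl
    · rintro _ haA ⟨b, hbL, rfl⟩
      exact congrArg Subtype.val (hvi b haA hbL)
    · rintro ⟨_, ⟨w, hw, rfl⟩, hwl⟩
      apply hb
      refine ⟨⟨w, hw⟩, ?_⟩
      ext l
      exact (hwl l ⟨l, l.2, rfl⟩).symm

end FrQ

/-- the condition on `z'` for `z' = z` -/
theorem hz_self {G : Type*} [Group G] {x z : G} :
    ∀ c, c * x = x * c → (c * z = z * c ↔ c * z = z * c) := fun _ _ => Iff.rfl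

/-- the condition on `z'` for `z' = x z` -/
theorem hz_mul {G : Type*} [Group G] {x z : G} :
    ∀ c, c * x = x * c → (c * (x * z) = x * z * c ↔ c * z = z * c) := by
  intro c hc
  constructor
  · intro h
    rw [← mul_assoc, hc, mul_assoc, mul_assoc] at h
    exact mul_left_cancel h
  · intro h
    rw [← mul_assoc, hc, mul_assoc, h, mul_assoc]

/-- type (a) for `C(z)`: helper419's frame `TypeA.Over` -/
theorem FrQ.types_over {G : Type*} [Group G] [Finite G] {x z q₀ : G} {K : Subgroup G} (f : FrQ x z q₀ K)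
    {F : Type*} [Field F] [Finite F] (R : L2Aut.Rep F K) (W : World z)
    {L : Subgroup G} (hL : Comp z L) {a : G} (ha : a ∈ A0 z K) (haL : a ∈ L)
    (ha1 : a ≠ 1) {T : Subgroup G} (pT : IsPGroup 2 T) (Tx : ∀ t ∈ T, t * x = x * t)
    (Tz : ∀ t ∈ T, t * z = z * t)
    (max : ∀ P : Subgroup G, IsPGroup 2 P → T ≤ P → (∀ y ∈ P, y * x = x * y) → P ≤ T) :
    (∃ w, TypeA.Over x z T K L w ∧ w ∈ T ∧ (∀ c, c * x = x * c → c * z = z * c → c * w = w * c)) ∨
      (∃ v ∈ L, v ∈ T ∧ v ≠ 1 ∧ v * v = 1 ∧ (∀ t ∈ T, t * v = v * t) ∧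
        (∀ u ∈ T, u ∈ L → u = 1 ∨ u = v) ∧ (∀ a ∈ A0 z K, a ∈ L → v * a * v⁻¹ = a⁻¹) ∧
        ¬ ∃ w ∈ L, ∀ l ∈ L, x * l * x⁻¹ = w * l * w⁻¹) := by
  rcases f.types R hz_self W hL ha haL ha1 pT Tx Tz max with ⟨w, hwL, hwT, hw1, hww, hwx, hwc, hsyl⟩ | h
  · left
    refine ⟨w, ?_, hwT, hwc⟩
    exact
      { Lz := hL.comm
        TL := fun t ht => f.norm_comp R hz_self W hL ha haL ha1 (Tx t ht) (Tz t ht)
        wL := hwL
        ww := hww
        w1 := hw1
        wx := hwx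
        iso := W.comp L hL
        syl := hsyl
        inv := by
          intro v hvT hvK hvv hv1 hvz
          refine ⟨a, haL, ?_, f.Kx a ((f.mem_A0 R).1 ha).1,
            f.inv_A0 R hvK (Tz v hvT) hvv hv1 hvz a ha⟩
          intro h
          exact ha1 (eq_one_of_sq h ((f.mem_A0 R).1 ha).2.2) }
  · exact Or.inr h

end Cfsg.Agent.OddHalf.D6

end
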