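import Cfsg.Agent.OddHalf.D9.TransferGen
import Cfsg.Agent.OddHalf.D6.Bal
import Cfsg.Agent.OddHalf.D6.SubFix
import Cfsg.Agent.S1260
import Cfsg.Agent.S1261

-- merged: Cfsg.Agent.OddHalf.D6.PairTransfer
section

/-!
# Transfer with exactly one bad coset (ODD D6, helper446)

`false_of_unique` : `G` without homomorphism onto `{±1}`, `H ≤ G` any subgroup (no condition on the index),
`lam : H →* {±1}`, `x` an involution, `T` a `2`-group centralising `x`, `x ∈ T ≤ H`, `lam x = -1`.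
Then some coset `gH ≠ H` is fixed by `T` and has `lam (g⁻¹ x g) = -1`.
-/

set_option autoImplicit false

namespace Cfsg.Agent.OddHalf.D6.PairTransfer

open Subgroup Cfsg.Agent.OddHalf.D9.TransferGen

variable {G : Type*} [Group G]

theorem fixed_iff (H : Subgroup G) (T : Subgroup G) (g : G) :
    (∀ d ∈ T, d • (g : G ⧸ H) = (g : G ⧸ H)) ↔ ∀ d ∈ T, g⁻¹ * d * g ∈ H := by
  constructor
  · intro h d hd
    exact (smul_mk_eq H d g).1 (h d hd)
  · intro h d hd
    exact (smul_mk_eq H d g).2 (h d hd)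

/-- **one bad coset** -/
theorem false_of_unique [Finite G] (hG : ∀ (f : G →* ℤˣ) (u : G), f u = 1) (H : Subgroup G)
    (lam : H →* ℤˣ) {x : G} (hx : x * x = 1) {T : Subgroup G} (hT : IsPGroup 2 T) (hxT : x ∈ T)
    (hTx : ∀ d ∈ T, d * x = x * d) (hTH : T ≤ H) (hl : lam ⟨x, hTH hxT⟩ = -1)
    (hu : ∀ (g : G) (h : ∀ d ∈ T, g⁻¹ * d * g ∈ H), lam ⟨g⁻¹ * x * g, h x hxT⟩ = -1 → g ∈ H) :
    False := by
  classical
  have hfin : Fintype (G ⧸ H) := Fintype.ofFinite _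
  have hx2 : ∀ k, k ∣ orderOf x → k ≠ 1 → ∀ g : G, ∀ h : g⁻¹ * x ^ k * g ∈ H,
      lam ⟨g⁻¹ * x ^ k * g, h⟩ = 1 := by
    intro k hk hk1 g h
    have h1 : orderOf x ∣ 2 := orderOf_dvd_of_pow_eq_one (by rw [pow_two, hx])
    have h2 : k = 2 := by
      rcases (Nat.dvd_prime Nat.prime_two).1 (hk.trans h1) with h3 | h3
      · exact absurd h3 hk1
      · exact h3
    have h3 : (⟨g⁻¹ * x ^ k * g, h⟩ : H) = 1 := by
      apply Subtype.ext
      show g⁻¹ * x ^ k * g = 1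
      rw [h2, pow_two, hx]
      group
    rw [h3, map_one]
  have key := transfer_eq_D H lam x hx2 T hT hxT hTx
  rw [hG (MonoidHom.transfer lam) x] at key
  -- the product is `-1`
  have h1 : ((1 : G) : G ⧸ H) ∈ Finset.univ.filter (fun q : G ⧸ H => ∀ d ∈ T, d • q = q) := by
    rw [Finset.mem_filter]
    refine ⟨Finset.mem_univ _, (fixed_iff H T 1).2 fun d hd => ?_⟩
    rw [inv_one, one_mul, mul_one]
    exact hTH hd
  have h11 : (1 : G)⁻¹ * x * 1 ∈ H := by rw [inv_one, one_mul, mul_one]; exact hTH hxT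
  rw [← Finset.mul_prod_erase _ _ h1, val_mk H lam x 1 h11] at key
  have h12 : lam ⟨(1 : G)⁻¹ * x * 1, h11⟩ = -1 := by
    rw [← hl]
    congr 1
    apply Subtype.ext
    show (1 : G)⁻¹ * x * 1 = x
    group
  rw [h12] at key
  have h2 : ∏ q ∈ (Finset.univ.filter (fun q : G ⧸ H => ∀ d ∈ T, d • q = q)).erase
      ((1 : G) : G ⧸ H), val H lam x q = 1 := by
    apply Finset.prod_eq_one
    intro q hq
    rw [Finset.mem_erase, Finset.mem_filter] at hq
    obtain ⟨g, rfl⟩ := QuotientGroup.mk_surjective q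
    have h3 := (fixed_iff H T g).1 hq.2.2
    rw [val_mk H lam x g (h3 x hxT)]
    rcases Int.units_eq_one_or (lam ⟨g⁻¹ * x * g, h3 x hxT⟩) with h4 | h4
    · exact h4
    · exfalso
      apply hq.1
      rw [QuotientGroup.eq, mul_one]
      exact H.inv_mem (hu g h3 h4)
  rw [h2, mul_one] at key
  exact absurd key (by decide)

end Cfsg.Agent.OddHalf.D6.PairTransfer

end

-- merged: Cfsg.Agent.OddHalf.D6.Beta
section

/-!
# ODD D6, `K = L₂(q)`, `|Q| = 2`, `q ≠ 9`: no component of type (b) (C2(beta), helper446)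

`BData` : `T` Sylow in `C(x)`, `K ≅ PSL(2,F)` normal in `C(x)`, `C(x) ∩ C(K) = ⟨x⟩`, `Z(T) ≤ ⟨x,z⟩ ∪ f⟨x,z⟩`, `f` a field
involution on `K`; `L ≅ PSL(2,F')` a `T`-invariant component of `C(z)` on which `x` acts as an element of
`PGL ∖ PSL`; `c ∈ T` with `z ∈ ⟨c²⟩` commutes with all `b` of odd order in `C(x) ∩ C(z)` that are inverted by an
element of `C(x) ∩ C(z)`.

`BData.absurd_of` : impossible if `G` has no homomorphism onto `{±1}`. The transfer for `H = N_{C(z)}(L)` and the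
character `o1` of `Aut L` : `L^g` for a bad `T`-fixed coset `gH` belongs to `z^g ∈ Z(T)`, and each of
`z^g = x, z, xz`, `z^g` a field involution is treated.
-/

set_option autoImplicit false

open Subgroup Cfsg Cfsg.Agent.GH
open Cfsg.Agent.S1260 (isQuasisimple_of_mulEquiv)

namespace Cfsg.Agent.OddHalf.D6.Beta

variable {G : Type*} [Group G]

/-- the elements `1, x, z, xz` -/
def Q4 (x z t : G) : Prop := t = 1 ∨ t = x ∨ t = z ∨ t = x * z

theorem Q4.comm {x z t b : G} (h : Q4 x z t) (hx : b * x = x * b) (hz : b * z = z * b) :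
    b * t = t * b := by
  rcases h with rfl | rfl | rfl | rfl
  · rw [mul_one, one_mul]
  · exact hx
  · exact hz
  · rw [← mul_assoc, hx, mul_assoc, hz, mul_assoc]

/-- Sylow's theorem in `M` -/
theorem exists_conj_mem [Finite G] {M T : Subgroup G} (pT : IsPGroup 2 T) (hTM : T ≤ M)
    (max : ∀ P : Subgroup G, IsPGroup 2 P → T ≤ P → P ≤ M → P ≤ T) {v : G} (hv : v ∈ M)
    (hvv : v * v = 1) : ∃ m ∈ M, m * v * m⁻¹ ∈ T := by
  have hP : IsPGroup 2 (zpowers v) := isPGroup_zpowers ⟨1, by rw [pow_one, sq, hvv]⟩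
  have hPM : zpowers v ≤ M := by rw [zpowers_le]; exact hv
  obtain ⟨S, hS⟩ := (show IsPGroup 2 (T.subgroupOf M) from pT.comap_subtype).exists_le_sylow
  obtain ⟨Q, hQ⟩ := (show IsPGroup 2 ((zpowers v).subgroupOf M) from
    hP.comap_subtype).exists_le_sylow
  have h1 : (S : Subgroup _).map M.subtype ≤ T := by
    refine max _ (S.2.map _) ?_ ?_
    · intro t ht
      exact ⟨⟨t, hTM ht⟩, hS ht, rfl⟩
    · rintro _ ⟨y, -, rfl⟩
      exact y.2
  obtain ⟨g, hg⟩ := MulAction.exists_smul_eq M Q S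
  refine ⟨g, g.2, ?_⟩
  have h2 : (⟨v, hv⟩ : M) ∈ Q := hQ (mem_zpowers v)
  exact h1 ⟨g * ⟨v, hv⟩ * g⁻¹, L2Aut.conj_mem_syl hg h2, rfl⟩

/-- The configuration. -/
structure BData {F F' : Type*} [Field F] [Finite F] [Field F'] [Finite F'] (x z f c : G)
    (T K L : Subgroup G) (RK : L2Aut.Rep F K) (RL : L2Aut.Rep F' L) : Prop where
  hF : 9 < Nat.card F
  xx : x * x = 1
  zz : z * z = 1
  z1 : z ≠ 1
  xT : x ∈ T
  zK : z ∈ K
  cx : ∀ t ∈ T, t * x = x * t
  cz : ∀ t ∈ T, t * z = z * t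
  pT : IsPGroup 2 T
  /-- `T` is a Sylow 2-subgroup of `C(x)` -/
  max : ∀ P : Subgroup G, IsPGroup 2 P → T ≤ P → (∀ y ∈ P, y * x = x * y) → P ≤ T
  Kx : ∀ k ∈ K, k * x = x * k
  Kn : ∀ g : G, g * x = x * g → ∀ k ∈ K, g * k * g⁻¹ ∈ K
  CK : ∀ g : G, g * x = x * g → (∀ k ∈ K, g * k = k * g) → g = 1 ∨ g = x
  /-- `f` acts on `K` with nontrivial field part -/
  fx : f * x = x * f
  fK : ∀ φ : MulAut K, (∀ k : K, ((φ k : K) : G) = f * k * f⁻¹) → RK.fld φ ≠ 1
  /-- the centre of `T` -/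
  Z : ∀ t ∈ T, (∀ d ∈ T, d * t = t * d) → Q4 x z t ∨ Q4 x z (f * t)
  cT : c ∈ T
  zc : z ∈ zpowers (c * c)
  inv : ∀ b v : G, Odd (orderOf b) → b * x = x * b → b * z = z * b → v * x = x * v → v * z = z * v →
    v * b * v⁻¹ = b⁻¹ → c * b = b * c
  Lz : ∀ l ∈ L, l * z = z * l
  TL : ∀ t ∈ T, ∀ l ∈ L, t * l * t⁻¹ ∈ L
  hL : IsComponent (L.subgroupOf (centralizer ({z} : Set G)))
  /-- `x` acts on `L` as an element of `PGL ∖ PSL` -/
  out : ∀ φ : MulAut L, (∀ l : L, ((φ l : L) : G) = x * l * x⁻¹) → RL.o1 φ = -1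
  b : ∃ b ∈ L, b ≠ 1 ∧ Odd (orderOf b) ∧ b * x = x * b

namespace BData

variable {F F' : Type*} [Field F] [Finite F] [Field F'] [Finite F'] {x z f c : G}
    {T K L : Subgroup G} {RK : L2Aut.Rep F K} {RL : L2Aut.Rep F' L}
    (S : BData x z f c T K L RK RL)

include S in
theorem xi : x⁻¹ = x := inv_eq_of_mul_eq_one_left S.xx

/-- the subgroup of the transfer -/
def HH (z : G) (L : Subgroup G) : Subgroup G := centralizer ({z} : Set G) ⊓ normalizer (L : Set G)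

/-- the character -/
noncomputable def lam (z : G) {L : Subgroup G} (RL : L2Aut.Rep F' L) : HH z L →* ℤˣ :=
  RL.o1.comp (L.normalizerMonoidHom.comp (inclusion (inf_le_right : HH z L ≤ normalizer (L : Set G))))

theorem lam_apply {h : G} (hh : h ∈ HH z L) : lam z RL ⟨h, hh⟩ = RL.o1 (act L h hh.2) := rfl

theorem mem_HH {h : G} : h ∈ HH z L ↔ h * z = z * h ∧ h ∈ normalizer (L : Set G) := by
  rw [HH, mem_inf, mem_centralizer_singleton_iff]

variable [Finite G]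

include S

theorem T_le : T ≤ HH z L := fun t ht => mem_HH.2 ⟨S.cz t ht, mem_norm_of (S.TL t ht)⟩

omit [Finite G] in
theorem two_pow {t : G} (ht : t ∈ T) : ∃ n, t ^ 2 ^ n = 1 := by
  obtain ⟨n, hn⟩ := S.pT ⟨t, ht⟩
  exact ⟨n, congrArg Subtype.val hn⟩

/-- the pair `(b, v)` for a bad coset -/
theorem pair {g : G} (h : ∀ d ∈ T, g⁻¹ * d * g ∈ HH z L)
    (hl : lam z RL ⟨g⁻¹ * x * g, h x S.xT⟩ = -1) :
    ∃ b v : G, g⁻¹ * b * g ∈ L ∧ b ≠ 1 ∧ Odd (orderOf b) ∧ b * x = x * b ∧ v ∈ T ∧ g⁻¹ * v * g ∈ L ∧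
      (∀ d ∈ T, d * v = v * d) ∧ v * b * v⁻¹ = b⁻¹ := by
  have hx' := h x S.xT
  obtain ⟨x', hx'e⟩ : ∃ x', x' = g⁻¹ * x * g := ⟨_, rfl⟩
  rw [lam_apply] at hl
  have hα' : act L (g⁻¹ * x * g) hx'.2 * act L (g⁻¹ * x * g) hx'.2 = 1 := by
    rw [act_mul, act_one_iff]
    intro l _
    have h1 : g⁻¹ * x * g * (g⁻¹ * x * g) = 1 := by
      calc g⁻¹ * x * g * (g⁻¹ * x * g) = g⁻¹ * (x * x) * g := by group
        _ = 1 := by rw [S.xx]; group
    rw [h1, one_mul, mul_one]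
  have hxn := (S.T_le S.xT).2
  have hα : act L x hxn * act L x hxn = 1 := by
    rw [act_mul, act_one_iff]
    intro l _
    rw [S.xx, one_mul, mul_one]
  have ho : RL.o1 (act L x hxn) = -1 := S.out _ fun l => act_apply L x hxn l
  obtain ⟨b0, hb0L, hb01, hb0o, hb0x⟩ := S.b
  obtain ⟨y, hy⟩ := PglType.exists_fix_conj RL hα ho hα' hl (b := ⟨b0, hb0L⟩)
    (act_eq_iff.2 hb0x.symm)
  obtain ⟨b1, hb1⟩ : ∃ b1 : L, b1 = y * ⟨b0, hb0L⟩ * y⁻¹ := ⟨_, rfl⟩
  rw [← hb1] at hy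
  have hb1o : Odd (orderOf b1) := by
    have h1 : orderOf b1 = orderOf (⟨b0, hb0L⟩ : L) := by
      rw [hb1]
      exact (MulAut.conj y).orderOf_eq (⟨b0, hb0L⟩ : L)
    rw [h1, orderOf_mk]
    exact hb0o
  have hb11 : b1 ≠ 1 := by
    intro h1
    apply hb01
    rw [hb1, mul_inv_eq_one, mul_eq_left] at h1
    exact congrArg Subtype.val h1
  -- an involution
  obtain ⟨v0, hv0, hv0v, hv01⟩ := PglType.exists_fix_involution RL hα' hl
  -- fixed elements
  have hfix : ∀ l : L, act L (g⁻¹ * x * g) hx'.2 l = l ↔ (g * (l : G) * g⁻¹) * x = x * (g * l * g⁻¹) := by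
    intro l
    rw [act_eq_iff]
    constructor
    · intro h1
      calc g * (l : G) * g⁻¹ * x = g * (l * (g⁻¹ * x * g)) * g⁻¹ := by group
        _ = g * (g⁻¹ * x * g * l) * g⁻¹ := by rw [h1]
        _ = x * (g * l * g⁻¹) := by group
    · intro h1
      calc g⁻¹ * x * g * (l : G) = g⁻¹ * (x * (g * l * g⁻¹)) * g := by group
        _ = g⁻¹ * (g * l * g⁻¹ * x) * g := by rw [h1]
        _ = l * (g⁻¹ * x * g) := by group
  have hLM : ∀ m, g⁻¹ * m * g ∈ HH z L → ∀ l ∈ L, g⁻¹ * m * g * l * (g⁻¹ * m * g)⁻¹ ∈ L := by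
    intro m hm l hl
    exact (mem_normalizer_iff.1 (mem_HH.1 hm).2 l).1 hl
  obtain ⟨m, hm, hmT⟩ := exists_conj_mem (v := g * v0 * g⁻¹)
    (M := centralizer ({x} : Set G) ⊓ (HH z L).comap (MulAut.conj g⁻¹).toMonoidHom) S.pT
    (fun t ht => ⟨mem_centralizer_singleton_iff.2 (S.cx t ht), by
      show g⁻¹ * t * g⁻¹⁻¹ ∈ HH z L
      rw [inv_inv]
      exact h t ht⟩)
    (fun P hP hTP hPM => S.max P hP hTP fun y hy =>
      mem_centralizer_singleton_iff.1 (hPM hy).1)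
    ⟨mem_centralizer_singleton_iff.2 ((hfix v0).1 hv0), by
      show g⁻¹ * (g * v0 * g⁻¹) * g⁻¹⁻¹ ∈ HH z L
      have h1 : g⁻¹ * (g * v0 * g⁻¹) * g⁻¹⁻¹ = v0 := by group
      rw [h1]
      exact mem_HH.2 ⟨S.Lz _ v0.2, le_normalizer v0.2⟩⟩
    (by
      have h1 : (v0 : G) * v0 = 1 := congrArg Subtype.val hv0v
      calc g * (v0 : G) * g⁻¹ * (g * v0 * g⁻¹) = g * (v0 * v0) * g⁻¹ := by group
        _ = 1 := by rw [h1]; group)
  have hmx : m * x = x * m := mem_centralizer_singleton_iff.1 hm.1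
  have hmH : g⁻¹ * m * g ∈ HH z L := by
    have h1 : g⁻¹ * m * g⁻¹⁻¹ ∈ HH z L := hm.2
    rwa [inv_inv] at h1
  obtain ⟨v, hv⟩ : ∃ v, v = m * (g * v0 * g⁻¹) * m⁻¹ := ⟨_, rfl⟩
  rw [← hv] at hmT
  have hvv : v * v = 1 := by
    have h1 : (v0 : G) * v0 = 1 := congrArg Subtype.val hv0v
    rw [hv]
    calc m * (g * (v0 : G) * g⁻¹) * m⁻¹ * (m * (g * v0 * g⁻¹) * m⁻¹)
        = m * (g * (v0 * v0) * g⁻¹) * m⁻¹ := by group
      _ = 1 := by rw [h1]; group
  have hv1 : v ≠ 1 := by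
    intro h1
    apply hv01
    apply Subtype.ext
    show (v0 : G) = 1
    have h2 : (v0 : G) = g⁻¹ * (m⁻¹ * v * m) * g := by rw [hv]; group
    rw [h2, h1]
    group
  have hvL : g⁻¹ * v * g ∈ L := by
    have h1 := hLM m hmH v0 v0.2
    have h2 : g⁻¹ * m * g * v0 * (g⁻¹ * m * g)⁻¹ = g⁻¹ * v * g := by rw [hv]; group
    rwa [h2] at h1
  -- `v` is central in `T`
  have hgc : ∀ w : G, g * (g⁻¹ * w * g) * g⁻¹ = w := fun w => by group
  have hw : ∀ w ∈ T, ∀ hw : g⁻¹ * w * g ∈ L, w * w = 1 → w ≠ 1 →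
      act L (g⁻¹ * x * g) hx'.2 ⟨g⁻¹ * w * g, hw⟩ = ⟨g⁻¹ * w * g, hw⟩ ∧
      (⟨g⁻¹ * w * g, hw⟩ : L) * ⟨g⁻¹ * w * g, hw⟩ = 1 ∧ (⟨g⁻¹ * w * g, hw⟩ : L) ≠ 1 := by
    intro w hwT hwL hww hw1
    refine ⟨?_, ?_, ?_⟩
    · rw [hfix]
      show g * (g⁻¹ * w * g) * g⁻¹ * x = x * (g * (g⁻¹ * w * g) * g⁻¹)
      rw [hgc, S.cx w hwT]
    · apply Subtype.ext
      show g⁻¹ * w * g * (g⁻¹ * w * g) = 1
      calc g⁻¹ * w * g * (g⁻¹ * w * g) = g⁻¹ * (w * w) * g := by group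
        _ = 1 := by rw [hww]; group
    · intro h1
      apply hw1
      have h2 : g⁻¹ * w * g = 1 := congrArg Subtype.val h1
      rw [← hgc w, h2]
      group
  obtain ⟨e1, e2, e3⟩ := hw v hmT hvL hvv hv1
  have hcen : ∀ d ∈ T, d * v = v * d := by
    intro d hd
    have hdvT : d * v * d⁻¹ ∈ T := mul_mem (mul_mem hd hmT) (inv_mem hd)
    have hdvL : g⁻¹ * (d * v * d⁻¹) * g ∈ L := by
      have h1 := hLM d (h d hd) _ hvL
      have h2 : g⁻¹ * d * g * (g⁻¹ * v * g) * (g⁻¹ * d * g)⁻¹ = g⁻¹ * (d * v * d⁻¹) * g := by group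
      rwa [h2] at h1
    have hdvv : d * v * d⁻¹ * (d * v * d⁻¹) = 1 := by
      calc d * v * d⁻¹ * (d * v * d⁻¹) = d * (v * v) * d⁻¹ := by group
        _ = 1 := by rw [hvv]; group
    have hdv1 : d * v * d⁻¹ ≠ 1 := by
      intro h1
      apply hv1
      have h2 : v = d⁻¹ * (d * v * d⁻¹) * d := by group
      rw [h2, h1]
      group
    obtain ⟨f1, f2, f3⟩ := hw _ hdvT hdvL hdvv hdv1
    have h1 := PglType.eq_of_two RL hα' hl e1 e2 e3 f1 f2 f3 (by
      obtain ⟨n, hn⟩ := S.two_pow (mul_mem hmT hdvT)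
      refine ⟨n, ?_⟩
      apply Subtype.ext
      show (g⁻¹ * v * g * (g⁻¹ * (d * v * d⁻¹) * g)) ^ 2 ^ n = 1
      have h2 : g⁻¹ * v * g * (g⁻¹ * (d * v * d⁻¹) * g) = g⁻¹ * (v * (d * v * d⁻¹)) * g⁻¹⁻¹ := by
        group
      rw [h2, conj_pow, hn]
      group)
    have h2 : g⁻¹ * v * g = g⁻¹ * (d * v * d⁻¹) * g := congrArg Subtype.val h1
    have h3 : v = d * v * d⁻¹ := mul_left_cancel (mul_right_cancel h2)
    nth_rw 2 [h3]
    group
  -- inversion
  have hinv := PglType.inverts RL hα' hl e1 e2 e3 hy hb1o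
  have hinv' : g⁻¹ * v * g * b1 * (g⁻¹ * v * g)⁻¹ = (b1 : G)⁻¹ := congrArg Subtype.val hinv
  refine ⟨g * b1 * g⁻¹, v, ?_, ?_, ?_, (hfix b1).1 hy, hmT, hvL, hcen, ?_⟩
  · have h1 : g⁻¹ * (g * b1 * g⁻¹) * g = b1 := by group
    rw [h1]
    exact b1.2
  · intro h1
    apply hb11
    apply Subtype.ext
    show (b1 : G) = 1
    have h2 : (b1 : G) = g⁻¹ * (g * b1 * g⁻¹) * g := by group
    rw [h2, h1]
    group
  · have h1 : orderOf (g * (b1 : G) * g⁻¹) = orderOf (b1 : G) := (MulAut.conj g).orderOf_eq (b1 : G)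
    rw [h1, orderOf_coe]
    exact hb1o
  · calc v * (g * (b1 : G) * g⁻¹) * v⁻¹ = g * (g⁻¹ * v * g * b1 * (g⁻¹ * v * g)⁻¹) * g⁻¹ := by group
      _ = (g * b1 * g⁻¹)⁻¹ := by rw [hinv']; group

omit S [Finite G] [Field F] [Finite F] [Field F'] [Finite F'] in
/-- an element inverting `b` is not in `⟨x,z⟩` -/
theorem not_Q4 {b v : G} (hb1 : b ≠ 1) (hbo : Odd (orderOf b)) (hx : b * x = x * b)
    (hz : b * z = z * b) (hv : v * b * v⁻¹ = b⁻¹) : ¬ Q4 x z v := by
  intro h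
  apply hb1
  have h1 := h.comm hx hz
  have h2 : v * b * v⁻¹ = b := by rw [← h1]; group
  rw [h2] at hv
  exact PglType.eq_one_of_eq_inv hv hbo

/-- the case `z^g = z` -/
theorem case_z {g : G} (h : ∀ d ∈ T, g⁻¹ * d * g ∈ HH z L)
    (hl : lam z RL ⟨g⁻¹ * x * g, h x S.xT⟩ = -1) (hg : g * z = z * g) : g ∈ HH z L := by
  refine mem_HH.2 ⟨hg, mem_norm_of ?_⟩
  by_contra hn
  have h' : ∀ d ∈ T, (1 : G)⁻¹ * d * 1 ∈ HH z L := fun d hd => by
    rw [inv_one, one_mul, mul_one]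
    exact S.T_le hd
  have hl' : lam z RL ⟨(1 : G)⁻¹ * x * 1, h' x S.xT⟩ = -1 := by
    rw [lam_apply]
    apply S.out
    intro l
    rw [act_apply]
    group
  obtain ⟨b, v, b1, b2, b3, b4, b5, b6, b7, b8⟩ := S.pair h hl
  obtain ⟨b', v', c1, c2, c3, c4, c5, c6, c7, c8⟩ := S.pair h' hl'
  have hbz : b * z = z * b := by
    have h1 := S.Lz _ b1
    have h2 : g⁻¹ * z = z * g⁻¹ := by
      rw [inv_mul_eq_iff_eq_mul, ← mul_assoc, hg, mul_inv_cancel_right]
    calc b * z = g * (g⁻¹ * b * g) * (g⁻¹ * z) := by group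
      _ = g * (g⁻¹ * b * g) * (z * g⁻¹) := by rw [h2]
      _ = g * (g⁻¹ * b * g * z) * g⁻¹ := by group
      _ = g * (z * (g⁻¹ * b * g)) * g⁻¹ := by rw [h1]
      _ = g * z * g⁻¹ * b := by group
      _ = z * b := by rw [hg]; group
  have hb'z : b' * z = z * b' := by
    have h1 := S.Lz _ c1
    have h2 : (1 : G)⁻¹ * b' * 1 = b' := by group
    rwa [h2] at h1
  have q1 := (S.Z v b5 b7).resolve_left (not_Q4 b2 b3 b4 hbz b8)
  have q2 := (S.Z v' c5 c7).resolve_left (not_Q4 c2 c3 c4 hb'z c8)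
  -- `v'` commutes with `b`
  have hc : v' * b = b * v' := by
    have hLC : L ≤ centralizer ({z} : Set G) := fun l hl =>
      mem_centralizer_singleton_iff.2 (S.Lz l hl)
    have h1 := comm_of_not (H := centralizer ({z} : Set G)) S.hL
      (h := ⟨g, mem_centralizer_singleton_iff.2 hg⟩)
      (fun h2 => hn fun l hl => h2 ⟨l, hLC hl⟩ hl)
      (a := ⟨g⁻¹ * b * g, hLC b1⟩) (b := ⟨(1 : G)⁻¹ * v' * 1, hLC c6⟩) b1 c6
    have h2 : g * (g⁻¹ * b * g) * g⁻¹ * ((1 : G)⁻¹ * v' * 1) =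
      (1 : G)⁻¹ * v' * 1 * (g * (g⁻¹ * b * g) * g⁻¹) := congrArg Subtype.val h1
    have h3 : g * (g⁻¹ * b * g) * g⁻¹ = b := by group
    have h4 : (1 : G)⁻¹ * v' * 1 = v' := by group
    rw [h3, h4] at h2
    exact h2.symm
  -- `v'⁻¹ v` commutes with `b`
  have hd1 := q1.comm b4 hbz
  have hd2 := q2.comm b4 hbz
  have hd3 : v * b = b * v := by
    have h1 : v = v' * ((f * v')⁻¹ * (f * v)) := by group
    have h2 : (f * v')⁻¹ * b = b * (f * v')⁻¹ := by
      rw [inv_mul_eq_iff_eq_mul, ← mul_assoc, ← hd2, mul_inv_cancel_right]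
    calc v * b = v' * ((f * v')⁻¹ * (f * v)) * b := by rw [← h1]
      _ = v' * (f * v')⁻¹ * ((f * v) * b) := by group
      _ = v' * (f * v')⁻¹ * (b * (f * v)) := by rw [hd1]
      _ = v' * ((f * v')⁻¹ * b) * (f * v) := by group
      _ = v' * (b * (f * v')⁻¹) * (f * v) := by rw [h2]
      _ = (v' * b) * ((f * v')⁻¹ * (f * v)) := by group
      _ = b * (v' * ((f * v')⁻¹ * (f * v))) := by rw [hc]; group
      _ = b * v := by rw [← h1]
  apply b2
  have h2 : v * b * v⁻¹ = b := by rw [hd3]; group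
  rw [h2] at b8
  exact PglType.eq_one_of_eq_inv b8 b3

/-- the case `z^g = xz` -/
theorem case_xz {g : G} (h : ∀ d ∈ T, g⁻¹ * d * g ∈ HH z L)
    (hl : lam z RL ⟨g⁻¹ * x * g, h x S.xT⟩ = -1) (hg : g * z * g⁻¹ = x * z) : False := by
  obtain ⟨b, v, b1, b2, b3, b4, b5, b6, b7, b8⟩ := S.pair h hl
  have hxz : b * (x * z) = x * z * b := by
    rw [← hg]
    have h1 := S.Lz _ b1
    calc b * (g * z * g⁻¹) = g * (g⁻¹ * b * g * z) * g⁻¹ := by group
      _ = g * (z * (g⁻¹ * b * g)) * g⁻¹ := by rw [h1]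
      _ = g * z * g⁻¹ * b := by group
  have hbz : b * z = z * b := by
    have h1 : x * (b * z) = x * (z * b) := by
      rw [← mul_assoc, ← b4, mul_assoc, hxz, mul_assoc]
    exact mul_left_cancel h1
  have hcb := S.inv b v b3 b4 hbz (S.cx v b5) (S.cz v b5) b8
  have hx' := h x S.xT
  have hc' := h c S.cT
  rw [lam_apply] at hl
  have hα' : act L (g⁻¹ * x * g) hx'.2 * act L (g⁻¹ * x * g) hx'.2 = 1 := by
    rw [act_mul, act_one_iff]
    intro l _
    have h1 : g⁻¹ * x * g * (g⁻¹ * x * g) = 1 := by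
      calc g⁻¹ * x * g * (g⁻¹ * x * g) = g⁻¹ * (x * x) * g := by group
        _ = 1 := by rw [S.xx]; group
    rw [h1, one_mul, mul_one]
  have hγ := PglType.mul_self_of_fix RL hα' hl (b := ⟨g⁻¹ * b * g, b1⟩) (γ := act L (g⁻¹ * c * g) hc'.2)
    (by
      intro h1
      apply b2
      have h2 : g⁻¹ * b * g = 1 := congrArg Subtype.val h1
      have h3 : b = g * (g⁻¹ * b * g) * g⁻¹ := by group
      rw [h3, h2]
      group)
    (by
      have h1 : orderOf (g⁻¹ * b * g⁻¹⁻¹) = orderOf b := (MulAut.conj g⁻¹).orderOf_eq b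
      rw [inv_inv] at h1
      rw [orderOf_mk, h1]
      exact b3)
    (by
      rw [act_eq_iff]
      show g⁻¹ * x * g * (g⁻¹ * b * g) = g⁻¹ * b * g * (g⁻¹ * x * g)
      calc g⁻¹ * x * g * (g⁻¹ * b * g) = g⁻¹ * (x * b) * g := by group
        _ = g⁻¹ * (b * x) * g := by rw [b4]
        _ = g⁻¹ * b * g * (g⁻¹ * x * g) := by group)
    (by
      obtain ⟨n, hn⟩ := S.two_pow S.cT
      refine ⟨n, ?_⟩
      have h1 : (⟨g⁻¹ * c * g, hc'.2⟩ : normalizer (L : Set G)) ^ 2 ^ n = 1 := by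
        apply Subtype.ext
        show (g⁻¹ * c * g) ^ 2 ^ n = 1
        have h2 : g⁻¹ * c * g = g⁻¹ * c * g⁻¹⁻¹ := by group
        rw [h2, conj_pow, hn]
        group
      show (L.normalizerMonoidHom ⟨g⁻¹ * c * g, hc'.2⟩) ^ 2 ^ n = 1
      rw [← map_pow, h1, map_one])
    (by
      rw [act_mul, act_mul]
      apply act_congr
      calc g⁻¹ * c * g * (g⁻¹ * x * g) = g⁻¹ * (c * x) * g := by group
        _ = g⁻¹ * (x * c) * g := by rw [S.cx c S.cT]
        _ = g⁻¹ * x * g * (g⁻¹ * c * g) := by group)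
    (by
      rw [act_eq_iff]
      show g⁻¹ * c * g * (g⁻¹ * b * g) = g⁻¹ * b * g * (g⁻¹ * c * g)
      calc g⁻¹ * c * g * (g⁻¹ * b * g) = g⁻¹ * (c * b) * g := by group
        _ = g⁻¹ * (b * c) * g := by rw [hcb]
        _ = g⁻¹ * b * g * (g⁻¹ * c * g) := by group)
  rw [act_mul, act_one_iff] at hγ
  -- so `g⁻¹ c² g` centralises `L`, and `g⁻¹ z g`, and `g⁻¹ x g`
  have key : ∀ l ∈ L, g⁻¹ * x * g * l = l * (g⁻¹ * x * g) := by
    intro l hl
    have h1 : c * c ∈ centralizer ({g * l * g⁻¹} : Set G) := by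
      rw [mem_centralizer_singleton_iff]
      have h2 := hγ l hl
      calc c * c * (g * l * g⁻¹) = g * (g⁻¹ * c * g * (g⁻¹ * c * g) * l) * g⁻¹ := by group
        _ = g * (l * (g⁻¹ * c * g * (g⁻¹ * c * g))) * g⁻¹ := by rw [h2]
        _ = g * l * g⁻¹ * (c * c) := by group
    have h2 : z ∈ centralizer ({g * l * g⁻¹} : Set G) := by
      have h3 : zpowers (c * c) ≤ centralizer ({g * l * g⁻¹} : Set G) := by rwa [zpowers_le]
      exact h3 S.zc
    have h3 : x * z ∈ centralizer ({g * l * g⁻¹} : Set G) := by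
      rw [← hg, mem_centralizer_singleton_iff]
      have h4 := S.Lz l hl
      calc g * z * g⁻¹ * (g * l * g⁻¹) = g * (z * l) * g⁻¹ := by group
        _ = g * (l * z) * g⁻¹ := by rw [h4]
        _ = g * l * g⁻¹ * (g * z * g⁻¹) := by group
    have h4 : x ∈ centralizer ({g * l * g⁻¹} : Set G) := by
      have h5 : x = x * z * z⁻¹ := by group
      rw [h5]
      exact mul_mem h3 (inv_mem h2)
    rw [mem_centralizer_singleton_iff] at h4
    calc g⁻¹ * x * g * l = g⁻¹ * (x * (g * l * g⁻¹)) * g := by group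
      _ = g⁻¹ * (g * l * g⁻¹ * x) * g := by rw [h4]
      _ = l * (g⁻¹ * x * g) := by group
  exact PglType.ne_one RL hl ((act_one_iff hx'.2).2 key)

/-- the case of a field involution -/
theorem case_f {g : G} (h : ∀ d ∈ T, g⁻¹ * d * g ∈ HH z L)
    (hl : lam z RL ⟨g⁻¹ * x * g, h x S.xT⟩ = -1) (hgT : g * z * g⁻¹ ∈ T)
    (hgQ : Q4 x z (f * (g * z * g⁻¹))) : False := by
  obtain ⟨u, hu⟩ : ∃ u, u = g * z * g⁻¹ := ⟨_, rfl⟩
  rw [← hu] at hgT hgQ
  have hux : u * x = x * u := S.cx u hgT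
  have hKmem : ∀ y, y * x = x * y → y ∈ normalizer (K : Set G) := fun y hy => mem_norm_of (S.Kn y hy)
  have huu : u * u = 1 := by
    rw [hu]
    calc g * z * g⁻¹ * (g * z * g⁻¹) = g * (z * z) * g⁻¹ := by group
      _ = 1 := by rw [S.zz]; group
  -- `u` is of field type
  obtain ⟨φ, hφ⟩ : ∃ φ, φ = act K u (hKmem u hux) := ⟨_, rfl⟩
  have hφφ : φ * φ = 1 := by
    rw [hφ, act_mul, act_one_iff]
    intro l _
    rw [huu, one_mul, mul_one]
  have hfφ : RK.fld φ ≠ 1 := by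
    intro h1
    refine S.fK (act K f (hKmem f S.fx)) (fun k => act_apply K f _ k) ?_
    have hQx : ∀ w, Q4 x z w → w * x = x * w := fun w hw => by
      rcases hw with rfl | rfl | rfl | rfl
      · group
      · rfl
      · exact S.cz x S.xT |>.symm
      · rw [mul_assoc, ← S.cz x S.xT]
    have hQ : ∀ w (hw : w * x = x * w), Q4 x z w → RK.fld (act K w (hKmem w hw)) = 1 := by
      intro w hw hq
      have hx1 : act K x (hKmem x rfl) = 1 := by
        rw [act_one_iff]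
        intro l hl
        exact (S.Kx l hl).symm
      have hz1 : RK.fld (act K z (hKmem z (S.cz x S.xT).symm)) = 1 := by
        have h2 : act K z (hKmem z (S.cz x S.xT).symm) = MulAut.conj ⟨z, S.zK⟩ := by
          ext l
          rfl
        rw [h2]
        exact RK.mem_PGL_iff_fld.1 (RK.conj_mem_PGL _)
      rcases hq with rfl | rfl | rfl | rfl
      · have h2 : act K 1 (hKmem 1 hw) = 1 := by
          rw [act_one_iff]
          intro l _
          rw [one_mul, mul_one]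
        rw [h2, map_one]
      · rw [hx1, map_one]
      · exact hz1
      · rw [← act_mul (hKmem x rfl) (hKmem z (S.cz x S.xT).symm), map_mul, hx1, map_one, hz1, one_mul]
    have h2 : act K f (hKmem f S.fx) * φ = act K (f * u) (hKmem _ (hQx _ hgQ)) := by
      rw [hφ]
      exact act_mul _ _
    have h3 := congrArg RK.fld h2
    rw [map_mul, h1, mul_one, hQ _ (hQx _ hgQ) hgQ] at h3
    exact h3
  obtain ⟨M, hM1, hM2, hM3, hM4⟩ := SubFix.exists_sub RK S.hF hφφ hfφ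
  obtain ⟨b, v, b1, b2, b3, b4, b5, b6, b7, b8⟩ := S.pair h hl
  have hφu : ∀ k : K, φ k = k ↔ (k : G) * u = u * k := by
    intro k
    rw [hφ, act_eq_iff]
    exact eq_comm
  have hMu : ∀ m ∈ M, (m : G) * u = u * m := fun m hm => (hφu m).1 (hM1 m hm)
  have hbu : b * u = u * b := by
    rw [hu]
    have h1 := S.Lz _ b1
    calc b * (g * z * g⁻¹) = g * (g⁻¹ * b * g * z) * g⁻¹ := by group
      _ = g * (z * (g⁻¹ * b * g)) * g⁻¹ := by rw [h1]
      _ = g * z * g⁻¹ * b := by group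
  -- the group `C(x) ∩ C(u)`
  obtain ⟨X, hX⟩ : ∃ X : Subgroup G, X = centralizer ({x} : Set G) ⊓ centralizer ({u} : Set G) :=
    ⟨_, rfl⟩
  have memX : ∀ y, y ∈ X ↔ y * x = x * y ∧ y * u = u * y := fun y => by
    rw [hX, mem_inf, mem_centralizer_singleton_iff, mem_centralizer_singleton_iff]
  have hK1X : M.map K.subtype ≤ X := by
    rintro _ ⟨m, hm, rfl⟩
    exact (memX _).2 ⟨S.Kx m m.2, hMu m hm⟩
  have hcomp : IsComponent ((M.map K.subtype).subgroupOf X) := by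
    constructor
    · have hle : (M.map K.subtype).subgroupOf X ≤ K.subgroupOf X := by
        rintro ⟨y, hy⟩ hyM
        obtain ⟨m, -, hm⟩ := hyM
        show y ∈ K
        rw [← show K.subtype m = y from hm]
        exact m.2
      refine IsSubnormal.trans hle ?_ ?_
      · refine Normal.isSubnormal ⟨?_⟩
        rintro ⟨⟨y, hyX⟩, hyK⟩ hyM ⟨⟨w, hwX⟩, hwK⟩
        obtain ⟨m, hm, hmy⟩ := hyM
        have hmy' : (m : G) = y := hmy
        have hwK' : w ∈ K := hwK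
        refine ⟨⟨w, hwK'⟩ * m * ⟨w, hwK'⟩⁻¹, hM3 ⟨w, hwK'⟩ ((hφu _).2 ((memX w).1 hwX).2) m hm, ?_⟩
        show w * m * w⁻¹ = w * y * w⁻¹
        rw [hmy']
      · refine Normal.isSubnormal ⟨?_⟩
        rintro ⟨y, hyX⟩ hyK ⟨w, hwX⟩
        exact S.Kn w ((memX w).1 hwX).1 y hyK
    · have e1 : M ≃* M.map K.subtype := M.equivMapOfInjective K.subtype K.subtype_injective
      have e2 : (M.map K.subtype).subgroupOf X ≃* M.map K.subtype := subgroupOfEquivOfLe hK1X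
      exact isQuasisimple_of_mulEquiv (e1.trans e2.symm) hM2
  -- the subnormal subgroup `X ∩ L^g`
  let ψ : X →* centralizer ({z} : Set G) :=
    ((MulAut.conj g⁻¹).toMonoidHom.comp X.subtype).codRestrict _ (by
      rintro ⟨y, hy⟩
      rw [mem_centralizer_singleton_iff]
      show g⁻¹ * y * g⁻¹⁻¹ * z = z * (g⁻¹ * y * g⁻¹⁻¹)
      have h1 := ((memX y).1 hy).2
      rw [hu] at h1
      calc g⁻¹ * y * g⁻¹⁻¹ * z = g⁻¹ * (y * (g * z * g⁻¹)) * g := by group
        _ = g⁻¹ * (g * z * g⁻¹ * y) * g := by rw [h1]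
        _ = z * (g⁻¹ * y * g⁻¹⁻¹) := by group)
  have hψ : ∀ y (hy : y ∈ X), ((ψ ⟨y, hy⟩ : centralizer ({z} : Set G)) : G) = g⁻¹ * y * g := by
    intro y hy
    show g⁻¹ * y * g⁻¹⁻¹ = _
    rw [inv_inv]
  have hsub : ((L.subgroupOf (centralizer ({z} : Set G))).comap ψ).IsSubnormal := S.hL.1.comap ψ
  have memS : ∀ y (hy : y ∈ X), (⟨y, hy⟩ : X) ∈ (L.subgroupOf (centralizer ({z} : Set G))).comap ψ ↔
      g⁻¹ * y * g ∈ L := by
    intro y hy
    rw [mem_comap, mem_subgroupOf, hψ]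
  have hx' := h x S.xT
  rcases Cfsg.Agent.S1261.result _ _ hcomp hsub with h1 | h1
  · -- `K₁^(g⁻¹) ≤ L` is fixed by `x^(g⁻¹)`
    have h2 : ∀ m ∈ M, g⁻¹ * (m : G) * g ∈ L := by
      intro m hm
      have h3 : (m : G) ∈ X := hK1X ⟨m, hm, rfl⟩
      exact (memS m h3).1 (h1 (show (⟨m, h3⟩ : X) ∈ (M.map K.subtype).subgroupOf X from ⟨m, hm, rfl⟩))
    let θ : M →* L :=
      { toFun := fun m => ⟨g⁻¹ * (m : G) * g, h2 m m.2⟩
        map_one' := Subtype.ext (by
          show g⁻¹ * (1 : G) * g = 1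
          group)
        map_mul' := fun a b => Subtype.ext (by
          show g⁻¹ * ((a : G) * (b : G)) * g = g⁻¹ * a * g * (g⁻¹ * b * g)
          group) }
    have hα' : act L (g⁻¹ * x * g) hx'.2 * act L (g⁻¹ * x * g) hx'.2 = 1 := by
      rw [act_mul, act_one_iff]
      intro l _
      have h1 : g⁻¹ * x * g * (g⁻¹ * x * g) = 1 := by
        calc g⁻¹ * x * g * (g⁻¹ * x * g) = g⁻¹ * (x * x) * g := by group
          _ = 1 := by rw [S.xx]; group
      rw [h1, one_mul, mul_one]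
    have h3 : θ.range = ⊥ := by
      refine PglType.no_perfect RL hα' hl ?_ ?_
      · rintro _ ⟨m, rfl⟩
        rw [act_eq_iff]
        show g⁻¹ * x * g * (g⁻¹ * (m : G) * g) = g⁻¹ * m * g * (g⁻¹ * x * g)
        have h4 := S.Kx m (m : K).2
        calc g⁻¹ * x * g * (g⁻¹ * (m : G) * g) = g⁻¹ * (x * m) * g := by group
          _ = g⁻¹ * (m * x) * g := by rw [h4]
          _ = g⁻¹ * m * g * (g⁻¹ * x * g) := by group
      · have h4 : ⁅(⊤ : Subgroup M), (⊤ : Subgroup M)⁆ = ⊤ := hM2.1.commutator_eq_top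
        rw [MonoidHom.range_eq_map, ← map_commutator, h4]
    have h4 := Cfsg.Agent.Lib.ComponentSolvable.quasisimple_nontrivial hM2
    obtain ⟨m, hm⟩ := exists_ne (1 : M)
    apply hm
    have h5 : θ m ∈ θ.range := ⟨m, rfl⟩
    rw [h3, mem_bot] at h5
    have h6 : g⁻¹ * (m : G) * g = 1 := congrArg Subtype.val h5
    apply Subtype.ext
    apply Subtype.ext
    show (m : G) = 1
    have h7 : (m : G) = g * (g⁻¹ * m * g) * g⁻¹ := by group
    rw [h7, h6]
    group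
  · -- `b` centralises `K₁`, hence `K`
    have hbX : b ∈ X := (memX b).2 ⟨b4, hbu⟩
    have h2 : ∀ m ∈ M, b * (m : G) = m * b := by
      intro m hm
      have h3 : (m : G) ∈ X := hK1X ⟨m, hm, rfl⟩
      have h4 := (commutator_eq_bot_iff_le_centralizer.1 h1)
        (show (⟨m, h3⟩ : X) ∈ (M.map K.subtype).subgroupOf X from ⟨m, hm, rfl⟩)
      have h5 := mem_centralizer_iff.1 h4 ⟨b, hbX⟩ ((memS b hbX).2 b1)
      exact congrArg Subtype.val h5
    have hβ : act K b (hKmem b b4) = 1 := by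
      apply hM4
      · exact Odd.of_dvd_nat b3 (orderOf_act_dvd _)
      · intro m hm
        rw [act_eq_iff]
        exact h2 m hm
    rw [act_one_iff] at hβ
    rcases S.CK b b4 hβ with h3 | h3
    · exact b2 h3
    · apply b2
      exact PglType.eq_one_of_odd_sq (by rw [h3]; exact S.xx) b3

/-- **C2(beta)** -/
theorem absurd_of (hG : ∀ (φ : G →* ℤˣ) (u : G), φ u = 1) : False := by
  refine PairTransfer.false_of_unique hG (HH z L) (lam z RL) S.xx S.pT S.xT S.cx S.T_le ?_ ?_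
  · rw [lam_apply]
    exact S.out _ fun l => act_apply L x _ l
  · intro g h hl
    have hz' : ∀ d ∈ T, d * (g * z * g⁻¹) = g * z * g⁻¹ * d := by
      intro d hd
      have h1 := (mem_HH.1 (h d hd)).1
      calc d * (g * z * g⁻¹) = g * (g⁻¹ * d * g * z) * g⁻¹ := by group
        _ = g * (z * (g⁻¹ * d * g)) * g⁻¹ := by rw [h1]
        _ = g * z * g⁻¹ * d := by group
    have hz'T : g * z * g⁻¹ ∈ T := by
      have h1 : g * z * g⁻¹ * (g * z * g⁻¹) = 1 := by
        calc g * z * g⁻¹ * (g * z * g⁻¹) = g * (z * z) * g⁻¹ := by group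
          _ = 1 := by rw [S.zz]; group
      have h2 : IsPGroup 2 (zpowers (g * z * g⁻¹)) := isPGroup_zpowers ⟨1, by rw [pow_one, sq, h1]⟩
      have h3 : T ≤ normalizer (zpowers (g * z * g⁻¹) : Set G) := by
        intro d hd
        apply mem_norm_of
        intro l hl
        obtain ⟨k, rfl⟩ := mem_zpowers_iff.1 hl
        have h4 : d * (g * z * g⁻¹) ^ k = (g * z * g⁻¹) ^ k * d :=
          (Commute.zpow_right (hz' d hd) k)
        rw [h4, mul_inv_cancel_right]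
        exact hl
      have h4 := IsPGroup.to_sup_of_normal_right' S.pT h2 h3
      have h5 := S.max _ h4 le_sup_left (by
        intro y hy
        have h6 : T ⊔ zpowers (g * z * g⁻¹) ≤ centralizer ({x} : Set G) := by
          rw [sup_le_iff, zpowers_le]
          exact ⟨fun t ht => mem_centralizer_singleton_iff.2 (S.cx t ht),
            mem_centralizer_singleton_iff.2 (hz' x S.xT).symm⟩
        exact mem_centralizer_singleton_iff.1 (h6 hy))
      exact h5 (mem_sup_right (mem_zpowers _))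
    rcases S.Z _ hz'T hz' with (h1 | h1 | h1 | h1) | h1
    · exfalso
      apply S.z1
      have h2 : z = g⁻¹ * (g * z * g⁻¹) * g := by group
      rw [h2, h1]
      group
    · exfalso
      rw [lam_apply] at hl
      refine PglType.ne_one RL hl ((act_one_iff (h x S.xT).2).2 fun l hl => ?_)
      have h2 : g⁻¹ * x * g = z := by rw [← h1]; group
      rw [h2]
      exact (S.Lz l hl).symm
    · exact S.case_z h hl (by rw [← mul_inv_eq_iff_eq_mul]; exact h1)
    · exact absurd (S.case_xz h hl h1) id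
    · exact absurd (S.case_f h hl hz'T h1) id

end BData

end Cfsg.Agent.OddHalf.D6.Beta

end
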