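import Cfsg.Agent.OddHalf.D6.FieldInvC
import Cfsg.Agent.Lib.PSL2Torus
import Cfsg.Agent.OddHalf.D6.BalG
import Cfsg.Agent.OddHalf.D6.Beta
import Cfsg.Agent.Transfer.PGroupNormal
import Cfsg.Agent.OddHalf.Front.FE
import Cfsg.Agent.OddHalf.LieOddFam

-- merged: Cfsg.Agent.OddHalf.D6.FieldInvD
section

/-!
# ODD D6, `K = L₂(q)`: the field involution inverts an element of odd order of `C_K(z)` (helper708)

`exists_inverted`: `φ` an involutory automorphism of field type of `L = PSL(2,F)`, `|F| ≠ 9`, trivial on a Sylow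
2-subgroup with central involution `z`: `φ` inverts an element `≠ 1` of odd order of `C_L(z)`.
-/

set_option autoImplicit false

namespace Cfsg.Agent.OddHalf.D6

open Matrix Cfsg.Agent.GH Cfsg.Agent.GH.L2Aut Cfsg.Agent.Lib.SL2Mat Cfsg.Agent.Lib.AutSL2
  Cfsg.Agent.Lib.AutSL2Out Cfsg.Agent.Lib.PSL2Circle Cfsg.Agent.Lib.PSL2Inv

section count

variable {F : Type*} [Field F] [Finite F]

/-- the count: some point of the circle has first coordinate not in `F₀ ∪ δ F₀` -/
theorem exists_point (h2 : (2 : F) ≠ 0) {τ : F ≃+* F} (hτ : orderOf τ = 2) (hF : Nat.card F ≠ 9) :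
    ∃ p : Circ F, τ p.re ≠ p.re ∧ τ p.re ≠ - p.re := by
  classical
  by_contra hno
  push Not at hno
  obtain ⟨K, hK, hcard⟩ := L2Aut.exists_fixed_field τ
  rw [hτ] at hcard
  have : Fintype F := Fintype.ofFinite F
  have : Fintype (Circ F) := Fintype.ofFinite _
  set k := Nat.card K with hk
  have hkodd : k % 2 = 1 := by
    have h1 := Lib.PSL2Torus.odd_card h2
    rw [hcard] at h1
    by_contra h3
    have h4 : k % 2 = 0 := by omega
    have h5 : k ^ 2 % 2 = 0 := by rw [pow_two, Nat.mul_mod, h4]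
    omega
  have hk4 : k ^ 2 % 4 = 1 := by
    have h3 : k % 4 = 1 ∨ k % 4 = 3 := by omega
    rcases h3 with h3 | h3 <;> rw [pow_two, Nat.mul_mod, h3]
  have hk1 : 1 < k := by
    have h3 : 1 < Nat.card F := Finite.one_lt_card
    rw [hcard] at h3
    by_contra h4
    interval_cases k <;> omega
  have hk3 : k ≠ 3 := by
    intro h3
    apply hF
    rw [hcard, h3]; norm_num
  have hk5 : 5 ≤ k := by omega
  have hcirc : Fintype.card (Circ F) = k ^ 2 - 1 := by
    rw [← Nat.card_eq_fintype_card]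
    rcases card_circ h2 with h3 | h3
    · rw [h3.2, hcard]
    · rw [hcard, hk4] at h3
      omega
  let S1 : Finset F := Finset.univ.filter (fun a => τ a = a)
  let S2 : Finset F := Finset.univ.filter (fun a => τ a = -a)
  have hS1 : S1.card = k := by
    rw [hk, Nat.card_eq_fintype_card, ← Fintype.card_coe]
    refine Fintype.card_congr ⟨fun a => ⟨a, (hK a).2 (Finset.mem_filter.1 a.2).2⟩,
      fun a => ⟨a, Finset.mem_filter.2 ⟨Finset.mem_univ _, (hK a).1 a.2⟩⟩, fun a => rfl, fun a => rfl⟩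
  have hS2 : S2.card ≤ k := by
    by_cases h3 : ∃ d ∈ S2, d ≠ 0
    · obtain ⟨d, hd, hd0⟩ := h3
      have hdd := (Finset.mem_filter.1 hd).2
      rw [← hS1]
      refine Finset.card_le_card_of_injOn (fun a => a * d⁻¹) ?_ ?_
      · intro a ha
        have haa := (Finset.mem_filter.1 ha).2
        refine Finset.mem_coe.2 (Finset.mem_filter.2 ⟨Finset.mem_univ _, ?_⟩)
        show τ (a * d⁻¹) = a * d⁻¹
        rw [map_mul, map_inv₀, haa, hdd, inv_neg, neg_mul_neg]
      · intro a _ b _ hab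
        exact mul_right_cancel₀ (inv_ne_zero hd0) hab
    · push Not at h3
      have h4 : S2 ⊆ {0} := by
        intro a ha
        rw [Finset.mem_singleton]
        exact h3 a ha
      exact (Finset.card_le_card h4).trans (by rw [Finset.card_singleton]; omega)
  have hfib := Finset.card_le_mul_card_image (f := fun p : Circ F => p.re) Finset.univ 2 (by
    intro a ha
    obtain ⟨p, -, hp⟩ := Finset.mem_image.1 ha
    let p' : Circ F := ⟨p.re, -p.im, by rw [neg_sq]; exact p.eqn⟩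
    have h3 : Finset.univ.filter (fun q : Circ F => q.re = a) ⊆ {p, p'} := by
      intro q hq
      have h4 : q.re = a := (Finset.mem_filter.1 hq).2
      have h5 : (q.im - p.im) * (q.im + p.im) = 0 := by
        have h6 := q.eqn
        have h7 := p.eqn
        have h8 : p.re = q.re := by rw [h4]; exact hp
        rw [h8] at h7
        linear_combination h6 - h7
      have h8 : q.re = p.re := by rw [h4]; exact hp.symm
      rw [Finset.mem_insert, Finset.mem_singleton]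
      rcases mul_eq_zero.1 h5 with h6 | h6
      · left
        exact Circ.ext h8 (by linear_combination h6)
      · right
        exact Circ.ext h8 (by show q.im = -p.im; linear_combination h6)
    exact (Finset.card_le_card h3).trans Finset.card_le_two)
  have himg : (Finset.univ.image (fun p : Circ F => p.re)).card ≤ 2 * k := by
    have h3 : Finset.univ.image (fun p : Circ F => p.re) ⊆ S1 ∪ S2 := by
      intro a ha
      obtain ⟨p, -, rfl⟩ := Finset.mem_image.1 ha
      rw [Finset.mem_union]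
      by_cases h4 : τ p.re = p.re
      · left; exact Finset.mem_filter.2 ⟨Finset.mem_univ _, h4⟩
      · right; exact Finset.mem_filter.2 ⟨Finset.mem_univ _, hno p h4⟩
    have h4 := (Finset.card_le_card h3).trans (Finset.card_union_le _ _)
    omega
  rw [Finset.card_univ, hcirc] at hfib
  have h9 : k ^ 2 - 1 ≤ 4 * k := by omega
  have h10 : 5 * k ≤ k ^ 2 := by rw [pow_two]; exact Nat.mul_le_mul_right k hk5
  omega

end count

section inverted

variable {F L : Type*} [Field F] [Finite F] [Group L]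

/-- an element is a product of a power of 2-power order and a power of odd order -/
theorem exists_two_odd {A : Type*} [Group A] [Finite A] (y : A) :
    ∃ u v : ℤ, ∃ k : ℕ, ∃ m : ℕ, Odd m ∧ orderOf y = 2 ^ k * m ∧ y = (y ^ m) ^ u * (y ^ 2 ^ k) ^ v := by
  obtain ⟨k, m, hm, hkm⟩ := Nat.exists_eq_two_pow_mul_odd (orderOf_pos y).ne'
  have hco : Int.gcd (m : ℤ) ((2 ^ k : ℕ) : ℤ) = 1 := by
    rw [Int.gcd_natCast_natCast]
    exact (Nat.Coprime.pow_left k hm.coprime_two_left).symm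
  have h1 := Int.gcd_eq_gcd_ab (m : ℤ) ((2 ^ k : ℕ) : ℤ)
  rw [hco] at h1
  refine ⟨Int.gcdA m ((2 ^ k : ℕ) : ℤ), Int.gcdB m ((2 ^ k : ℕ) : ℤ), k, m, hm, hkm, ?_⟩
  rw [← zpow_natCast y m, ← zpow_natCast y (2 ^ k), ← _root_.zpow_mul, ← _root_.zpow_mul, ← _root_.zpow_add, ← h1]
  simp

theorem exists_inverted (R : L2Aut.Rep F L) {φ : MulAut L} (hφφ : φ * φ = 1) (hφf : R.fld φ ≠ 1)
    {z : L} (hzz : z * z = 1) (hz1 : z ≠ 1) (P : Sylow 2 L) (hP : ∀ s ∈ P, φ s = s)
    (hzP : z ∈ P) (hPz : ∀ s ∈ P, s * z = z * s) (hF : Nat.card F ≠ 9) :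
    ∃ a : L, a * z = z * a ∧ Odd (orderOf a) ∧ a ≠ 1 ∧ φ a = a⁻¹ := by
  have hfinL : Finite L := R.finite
  obtain ⟨R', -, hfld, hφ, hord⟩ := R.ftype_rep (fun h1 => hφf (R.mem_PGL_iff_fld.1 h1)) hφφ
  set τ := R.fld φ with hτ
  have h2 := R'.two
  obtain ⟨i, hi, hii⟩ := R'.exists_inv_lift hzz hz1
  have hii' : i * i = -1 := Subtype.ext hii
  have hie : ent i 1 1 = - ent i 0 0 := tr_of_sq h2 hii'
  have hcomm : ∀ m n : Matrix.SpecialLinearGroup (Fin 2) F, m * i = i * m → n * i = i * n →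
      m * n = n * m := by
    intro m n hm hn
    obtain ⟨p, rfl⟩ := exists_comb h2 hie hm
    obtain ⟨q, rfl⟩ := exists_comb h2 hie hn
    exact comb_comm hie p q
  have hφz : φ z = z := hP z hzP
  have hτi : fieldAut τ i = i ∨ fieldAut τ i = -i := by
    rw [← R'.π_eq_iff, ← R'.fa_apply, ← hφ, hi, hφz]
  have hφm : ∀ m, φ (R'.π m) = R'.π (fieldAut τ m) := by
    intro m
    rw [← R'.fa_apply, ← hφ]
  have hτm : ∀ m, m * i = i * m → fieldAut τ m * i = i * fieldAut τ m := by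
    intro m hm
    have h3 := congrArg (fieldAut τ) hm
    rw [map_mul, map_mul] at h3
    rcases hτi with h4 | h4
    · rwa [h4] at h3
    · rw [h4, mul_neg, neg_mul, neg_inj] at h3
      exact h3
  by_contra hno
  push Not at hno
  -- elements of odd order are fixed
  have hodd : ∀ m, m * i = i * m → Odd (orderOf (R'.π m)) → φ (R'.π m) = R'.π m := by
    intro m hm ho
    by_contra h3
    have hc : R'.π m * φ (R'.π m) = φ (R'.π m) * R'.π m := by
      rw [hφm, ← map_mul, ← map_mul, hcomm _ _ hm (hτm m hm)]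
    have hφ2 : φ (φ (R'.π m)) = R'.π m := by
      rw [← MulAut.mul_apply, hφφ, MulAut.one_apply]
    refine hno (R'.π m * (φ (R'.π m))⁻¹) ?_ ?_ ?_ ?_
    · have e1 : R'.π m * z = z * R'.π m := by rw [← hi, ← map_mul, hm, map_mul]
      have e2 : φ (R'.π m) * z = z * φ (R'.π m) := by
        have := congrArg φ e1
        rwa [map_mul, map_mul, hφz] at this
      have e3 : (φ (R'.π m))⁻¹ * z = z * (φ (R'.π m))⁻¹ := by
        rw [inv_mul_eq_iff_eq_mul, ← mul_assoc, e2, mul_assoc, mul_inv_cancel, mul_one]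
      rw [mul_assoc, e3, ← mul_assoc, e1, mul_assoc]
    · have e1 : Commute (R'.π m) (φ (R'.π m))⁻¹ := (Commute.inv_right (show Commute _ _ from hc))
      have e2 : orderOf (φ (R'.π m))⁻¹ = orderOf (R'.π m) := by
        rw [orderOf_inv]
        exact orderOf_injective φ.toMonoidHom φ.injective _
      refine Odd.of_dvd_nat ?_ (e1.orderOf_mul_dvd_mul_orderOf)
      rw [e2]; exact ho.mul ho
    · rw [Ne, mul_inv_eq_one]
      exact fun h => h3 h.symm
    · rw [map_mul, map_inv, hφ2, _root_.mul_inv_rev, inv_inv]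
  -- 2-elements are in `P`
  have htwo : ∀ m, m * i = i * m → (∃ n, (R'.π m) ^ 2 ^ n = 1) → φ (R'.π m) = R'.π m := by
    intro m hm hn
    apply hP
    have hnorm : ∀ s ∈ P, s * R'.π m * s⁻¹ ∈ Subgroup.zpowers (R'.π m) := by
      intro s hs
      obtain ⟨n, rfl⟩ := R'.surj s
      have e1 : n * i = i * n ∨ n * i = -(i * n) := by
        rw [← R'.π_eq_iff, map_mul, map_mul, hi]
        exact hPz _ hs
      rcases e1 with e1 | e1
      · rw [← map_mul, hcomm n m e1 hm, map_mul, mul_inv_cancel_right]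
        exact Subgroup.mem_zpowers _
      · have e2 := (Lib.PSL2Torus.anti h2 hie e1).2 m hm
        rw [← map_mul, ← map_inv, ← map_mul, e2, map_inv]
        exact (Subgroup.zpowers _).inv_mem (Subgroup.mem_zpowers _)
    have hsup : IsPGroup 2 (Subgroup.zpowers (R'.π m) ⊔ (P : Subgroup L) : Subgroup L) := by
      refine isPGroup_sup (isPGroup_zp hn) P.isPGroup' ?_
      intro s hs
      refine Subgroup.mem_normalizer_fintype ?_
      intro y hy
      obtain ⟨j, rfl⟩ := Subgroup.mem_zpowers_iff.1 hy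
      have e3 : s * (R'.π m) ^ j * s⁻¹ = (s * R'.π m * s⁻¹) ^ j := (conj_zpow).symm
      rw [e3]
      exact (Subgroup.zpowers _).zpow_mem (hnorm s hs) j
    have e4 := P.is_maximal' hsup le_sup_right
    rw [← SetLike.mem_coe, ← P.coe_coe, SetLike.mem_coe]
    rw [← e4]
    exact (le_sup_left : Subgroup.zpowers (R'.π m) ≤ _) (Subgroup.mem_zpowers _)
  -- everything is fixed
  have hall : ∀ m, m * i = i * m → φ (R'.π m) = R'.π m := by
    intro m hm
    obtain ⟨u, v, k, n, hn, hord', hy⟩ := exists_two_odd (R'.π m)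
    have hpow : ∀ j : ℕ, m ^ j * i = i * m ^ j := fun j =>
      ((show Commute m i from hm).pow_left j)
    have e1 : φ ((R'.π m) ^ n) = (R'.π m) ^ n := by
      rw [← map_pow]
      refine htwo _ (hpow n) ⟨k, ?_⟩
      rw [map_pow, ← pow_mul, mul_comm, ← hord', pow_orderOf_eq_one]
    have e2 : φ ((R'.π m) ^ 2 ^ k) = (R'.π m) ^ 2 ^ k := by
      rw [← map_pow]
      refine hodd _ (hpow _) ?_
      rw [map_pow, orderOf_pow, hord', Nat.gcd_mul_right_left, Nat.mul_div_cancel_left _ (by positivity)]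
      exact hn
    rw [hy, map_mul, map_zpow, map_zpow, e1, e2]
  -- count
  obtain ⟨p, hp1, hp2⟩ := exists_point h2 hord hF
  have h3 := hall (comb i hie p) (comb_commute hie p)
  rw [hφm, R'.π_eq_iff] at h3
  have htr : tr (comb i hie p) = 2 * p.re := by
    show ent (comb i hie p) 0 0 + ent (comb i hie p) 1 1 = 2 * p.re
    rw [comb_00, comb_11]; ring
  have htr' := tr_fieldAut τ (comb i hie p)
  have hτ2 : τ 2 = 2 := map_ofNat τ 2
  rcases h3 with h3 | h3
  · rw [h3, htr, map_mul, hτ2] at htr'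
    exact hp1 (mul_left_cancel₀ h2 htr'.symm)
  · have hneg : ∀ y : Matrix.SpecialLinearGroup (Fin 2) F, tr (-y) = - tr y := by
      intro y
      show - ent y 0 0 + - ent y 1 1 = -(ent y 0 0 + ent y 1 1)
      ring
    rw [h3, hneg, htr, map_mul, hτ2] at htr'
    apply hp2
    apply mul_left_cancel₀ h2
    rw [← htr']; ring

end inverted

/-- **(B4)** `f` inverts an element of odd prime order of `C_K(z)`. -/
theorem FData.exists_inv {G : Type*} [Group G] [Finite G] {x z f c r : G} {K T : Subgroup G}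
    {F : Type*} [Field F] [Finite F] {R : L2Aut.Rep F K} (S : Setup x K T)
    (D : FData x z f c r K T R) (hF : Nat.card F ≠ 9) :
    ∃ a ∈ K, a * z = z * a ∧ (orderOf a).Prime ∧ Odd (orderOf a) ∧ f * a * f⁻¹ = a⁻¹ := by
  obtain ⟨P, hP⟩ := S.sylK
  have memP : ∀ k : K, k ∈ P ↔ (k : G) ∈ T := by
    intro k
    have : k ∈ (P : Subgroup K) ↔ k ∈ T.subgroupOf K := by rw [hP]
    exact this
  obtain ⟨φ, hφ⟩ := S.acts (S.cx f D.fT)
  obtain ⟨hφφ, hφf⟩ := D.ftype φ hφ
  have hzT := D.zT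
  obtain ⟨a, haz, hao, ha1, haφ⟩ := exists_inverted R hφφ hφf (z := ⟨z, D.zK⟩)
    (Subtype.ext D.zz) (fun h => D.z1 (congrArg Subtype.val h)) P
    (fun s hs => hφ.fix (D.fD s ((memP s).1 hs) s.2)) ((memP _).2 hzT)
    (fun s hs => Subtype.ext (D.cz s ((memP s).1 hs))) hF
  have ha1' : orderOf a ≠ 1 := fun h => ha1 (orderOf_eq_one_iff.1 h)
  obtain ⟨p, hp, hpa⟩ := Nat.exists_prime_and_dvd ha1'
  have hord : orderOf (a ^ (orderOf a / p)) = p := by
    rw [orderOf_pow, Nat.gcd_eq_right (Nat.div_dvd_of_dvd hpa)]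
    exact Nat.div_div_self hpa (orderOf_pos a).ne'
  have hord' : orderOf ((a ^ (orderOf a / p) : K) : G) = p := by
    rw [Subgroup.orderOf_coe]; exact hord
  refine ⟨((a ^ (orderOf a / p) : K) : G), (a ^ (orderOf a / p)).2, ?_, ?_, ?_, ?_⟩
  · have h1 : a ^ (orderOf a / p) * ⟨z, D.zK⟩ = ⟨z, D.zK⟩ * a ^ (orderOf a / p) :=
      (show Commute a ⟨z, D.zK⟩ from haz).pow_left _
    exact congrArg Subtype.val h1
  · rw [hord']; exact hp
  · rw [hord']; exact Odd.of_dvd_nat hao hpa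
  · rw [← hφ, map_pow, haφ, inv_pow]
    rfl

end Cfsg.Agent.OddHalf.D6

end

-- merged: Cfsg.Agent.OddHalf.D6.Main2
section

/-!
# ODD D6, `K = L₂(q)`, `|Q| = 2`, `q ≠ 9`: the end (helper708)

`main2`: `x` an involution of the finite group `G` without homomorphism onto `{±1}`, of sectional 2-rank at least 5,
`K ≅ PSL(2,F)` normal in `C(x)` with `C_{C(x)}(K) = {1, x}`, `|F| ≠ 9`; all involution centralizers have trivial core
and only components `PSL(2,F')`, `F'` of odd characteristic. Contradiction.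
-/

set_option autoImplicit false

namespace Cfsg.Agent.OddHalf.D6

open Subgroup Cfsg.Agent.GH Cfsg.Agent.GH.L2Aut

variable {G : Type*} [Group G]

theorem Setup.toFr {x z : G} {K T : Subgroup G} (S : Setup x K T) (zK : z ∈ K) (zz : z * z = 1)
    (z1 : z ≠ 1) : Fr x z K :=
  ⟨S.xx, S.Kx, S.Kn, S.CK, zK, zz, z1⟩

/-- type (a) -/
theorem false_of_typeA [Finite G] {x z f c r w a : G} {K T L : Subgroup G} {F : Type} [Field F]
    [Finite F] {R : L2Aut.Rep F K} (S : Setup x K T) (D : FData x z f c r K T R)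
    (O : TypeA.Over x z T K L w) (hwT : w ∈ T)
    (hw : ∀ c, c * x = x * c → c * z = z * c → c * w = w * c)
    (haK : a ∈ K) (haz : a * z = z * a) (hao : Odd (orderOf a)) (ha1 : a ≠ 1)
    (hfa : f * a * f⁻¹ = a⁻¹) : False := by
  have haw := hw a (S.Kx a haK) haz
  have hcen : ∀ t ∈ T, w * t = t * w := fun t ht => (hw t (S.cx t ht) (D.cz t ht)).symm
  obtain ⟨e, he, hwe⟩ := D.CD w hwT (fun d hd _ => hcen d hd)
  have hea : e * a = a * e := by
    have h1 := S.Kx a haK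
    rcases he with rfl | rfl | rfl | rfl
    · rw [mul_one, one_mul]
    · exact h1.symm
    · exact haz.symm
    · rw [mul_assoc, ← haz, ← mul_assoc, ← h1, mul_assoc]
  rcases hwe with rfl | rfl
  · have hz : w ≠ z := by
      rintro rfl
      exact O.w1 (O.center O.wL (fun m hm => (O.Lz m hm).symm))
    rcases he with h | h | h | h
    · exact O.w1 h
    · exact (D.base S).false_of_over O (Or.inl h)
    · exact hz h
    · exact (D.base S).false_of_over O (Or.inr h)
  · have h1 : a = a⁻¹ := by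
      calc a = (f * e) * a * (f * e)⁻¹ := by rw [← haw]; group
        _ = f * (e * a * e⁻¹) * f⁻¹ := by group
        _ = f * a * f⁻¹ := by rw [hea]; group
        _ = a⁻¹ := hfa
    have h2 : a * a = 1 := by nth_rw 2 [h1]; exact mul_inv_cancel a
    have h3 : orderOf a ∣ 2 := orderOf_dvd_of_pow_eq_one (by rw [pow_two]; exact h2)
    rcases (Nat.dvd_prime Nat.prime_two).1 h3 with h4 | h4
    · exact ha1 (orderOf_eq_one_iff.1 h4)
    · rw [h4] at hao; exact absurd hao (by decide)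

/-- `x` acts on a component of `C(z)` as an element of `PGL(2,F)` -/
theorem fld_of_comp [Finite G] {x z : G} {K : Subgroup G} {F : Type*} [Field F] [Finite F]
    {R : L2Aut.Rep F K} (fr : Fr x z K) {L : Subgroup G} (hL : Comp z L) {F' : Type*}
    [Field F'] [Finite F'] (RL : L2Aut.Rep F' L) {φ : MulAut L}
    (hφ : ∀ l : L, ((φ l : L) : G) = x * l * x⁻¹) : RL.fld φ = 1 := by
  have B := fr.toQ.bal R (hz_self (x := x) (z := z))
  by_contra h
  have hφφ : φ * φ = 1 := by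
    ext l
    rw [MulAut.mul_apply, hφ, hφ, MulAut.one_apply]
    have hx : x⁻¹ = x := inv_eq_of_mul_eq_one_left fr.xx
    rw [hx]
    calc x * (x * l * x) * x = (x * x) * l * (x * x) := by group
      _ = l := by rw [fr.xx]; group
  obtain ⟨a, b, y, hab, ha, hb, hy, hyyy, hya⟩ := RL.field_four (fun h1 => h (RL.mem_PGL_iff_fld.1 h1)) hφφ
  have hc : ∀ l : L, φ l = l → (l : G) * x = x * l := by
    intro l hl
    have h1 := hφ l
    rw [hl] at h1
    nth_rw 1 [h1]; group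
  have hz : ∀ l : L, (l : G) ∈ centralizer ({z} : Set G) := fun l => mem_cent.2 (hL.comm l l.2)
  have e1 : (y : G) * y * y = 1 := congrArg Subtype.val hyyy
  have e2 : (y : G) * a * (y : G)⁻¹ = b := congrArg Subtype.val hya
  have e3 : (a : G) * a = 1 := congrArg Subtype.val hab.aa
  have e4 : (b : G) * b = 1 := congrArg Subtype.val hab.bb
  have e5 : (a : G) * b = b * a := congrArg Subtype.val hab.comm
  have h2 := B.no_four (a := ⟨a, hz a⟩) (b := ⟨b, hz b⟩) (y := ⟨y, hz y⟩)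
    (Subtype.ext (hc y hy)) (Subtype.ext (hc a ha)) (Subtype.ext e1) (Subtype.ext e2)
    (Subtype.ext e3) (Subtype.ext e4) (Subtype.ext e5)
  have h3 : (a : G) = b := congrArg (fun t : ↥(centralizer ({z} : Set G)) => (t : G)) h2
  exact hab.ne (Subtype.ext h3)

/-- **|Q| = 2** -/
theorem main2 [Finite G] (hG : ∀ (φ : G →* ℤˣ) (u : G), φ u = 1)
    (h5 : ¬ SectionalPRankLE 2 4 G) {x : G} {K T : Subgroup G} (S : Setup x K T) {F : Type}
    [Field F] [Finite F] (R : L2Aut.Rep F K) (hF : Nat.card F ≠ 9)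
    (hW : ∀ u : G, u * u = 1 → u ≠ 1 → World u) : False := by
  have hfield : ∃ t ∈ T, ∃ α, Acts K t α ∧ α * α = 1 ∧ R.fld α ≠ 1 := by
    by_contra h
    push Not at h
    exact h5 (S.harada R h)
  obtain ⟨z, f, c, r, D⟩ := S.exists_fdata R hfield
  have fr := S.toFr D.zK D.zz D.z1
  have W := hW z D.zz D.z1
  obtain ⟨a, haK, haz, hap, hao, hfa⟩ := D.exists_inv S hF
  have ha1 : a ≠ 1 := by
    rintro rfl
    rw [orderOf_one] at hap
    exact Nat.not_prime_one hap
  have haA : a ∈ A0 z K := (fr.toQ.mem_A0 R).2 ⟨haK, haz, hao⟩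
  obtain ⟨L, hL, haL⟩ := fr.toQ.exists_comp R hz_self W haA hap
  rcases fr.toQ.types_over R W hL haA haL ha1 S.pT S.cx D.cz (fun P hP hTP h => S.max hP hTP h) with
    ⟨w, O, hwT, hw⟩ | ⟨v, -, -, -, -, -, -, -, hout⟩
  · exact false_of_typeA S D O hwT hw haK haz hao ha1 hfa
  · obtain ⟨F', _, _, ⟨RL⟩⟩ := W.comp L hL
    have hF9 : 9 < Nat.card F := by
      obtain ⟨α, hα⟩ := S.acts (S.cx f D.fT)
      obtain ⟨hαα, hαf⟩ := D.ftype α hα
      obtain ⟨K₀, hK₀, hcard⟩ := L2Aut.exists_fixed_field (R.fld α)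
      have h2 : orderOf (R.fld α) = 2 := by
        apply orderOf_eq_prime
        · rw [pow_two, ← map_mul, hαα, map_one]
        · exact hαf
      rw [h2] at hcard
      have h3 := Lib.PSL2Torus.odd_card R.two
      have h4 : 1 < Nat.card F := Finite.one_lt_card
      set k := Nat.card K₀
      rw [hcard] at h3 h4 hF ⊢
      have h5 : k % 2 = 1 := by
        by_contra h6
        have h7 : k % 2 = 0 := by omega
        have h8 : k ^ 2 % 2 = 0 := by rw [pow_two, Nat.mul_mod, h7]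
        omega
      have h6 : k ≠ 1 := by
        intro h7
        rw [h7] at h4
        norm_num at h4
      have h7 : k ≠ 3 := by
        intro h7
        rw [h7] at hF
        norm_num at hF
      have h8 : 5 ≤ k := by omega
      nlinarith
    have BD : Beta.BData x z f c T K L R RL :=
      { hF := hF9
        xx := S.xx
        zz := D.zz
        z1 := D.z1
        xT := S.xT
        zK := D.zK
        cx := S.cx
        cz := D.cz
        pT := S.pT
        max := fun P hP hTP h => S.max hP hTP h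
        Kx := S.Kx
        Kn := S.Kn
        CK := S.CK
        fx := S.cx f D.fT
        fK := fun φ hφ => (D.ftype φ hφ).2
        Z := by
          intro t ht hcen
          obtain ⟨e, he, hte⟩ := D.CD t ht (fun d hd _ => (hcen d hd).symm)
          rcases hte with rfl | rfl
          · exact Or.inl he
          · right
            rw [← mul_assoc]
            rcases D.ff with h1 | h1
            · rw [h1, one_mul]; exact he
            · rw [h1]
              rcases he with rfl | rfl | rfl | rfl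
              · right; left; rw [mul_one]
              · left; exact S.xx
              · right; right; right; rfl
              · right; right; left
                rw [← mul_assoc, S.xx, one_mul]
        cT := D.cT
        zc := D.zc
        inv := by
          intro b v hbo hbx hbz hvx hvz hvb
          have h1 := (fr.toQ.A0_data R).2.2.2.2 b v hbx hvx hbz hvz hbo
          have h2 : b * v * b⁻¹ * v⁻¹ = b * b := by
            have h3 : v * b⁻¹ * v⁻¹ = b := by
              have h4 := congrArg (fun y => y⁻¹) hvb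
              simp only [mul_inv_rev, inv_inv] at h4
              rw [← mul_assoc] at h4
              exact h4
            calc b * v * b⁻¹ * v⁻¹ = b * (v * b⁻¹ * v⁻¹) := by group
              _ = b * b := by rw [h3]
          rw [h2] at h1
          have h3 := mem_of_sq_mem h1 hbo
          exact D.codd b ((fr.toQ.mem_A0 R).1 h3).1 hbz hbo
        Lz := hL.comm
        TL := fun t ht => fr.toQ.norm_comp R hz_self W hL haA haL ha1 (S.cx t ht) (D.cz t ht)
        hL := by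
          obtain ⟨L', hL', rfl⟩ := hL
          rw [Subgroup.subgroupOf,
            Subgroup.comap_map_eq_self_of_injective (centralizer ({z} : Set G)).subtype_injective]
          exact hL'
        out := by
          intro φ hφ
          have h1 := fld_of_comp (R := R) fr hL RL hφ
          by_contra h2
          have h3 : RL.o1 φ = 1 := by
            rcases Int.units_eq_one_or (RL.o1 φ) with h3 | h3
            · exact h3
            · exact absurd h3 h2
          obtain ⟨w, hw⟩ := RL.mem_inn_iff.2 ⟨h1, h3⟩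
          refine hout ⟨w, w.2, fun l hl => ?_⟩
          have h4 := hφ ⟨l, hl⟩
          rw [← hw] at h4
          exact h4.symm
        b := ⟨a, haL, ha1, hao, S.Kx a haK⟩ }
    exact BD.absurd_of hG

end Cfsg.Agent.OddHalf.D6

end

-- merged: Cfsg.Agent.OddHalf.D6.SetupQ
section

/-!
# ODD D6, `K = L₂(q)`, `Q = C_{C(x)}(K) = ⟨q₀⟩` cyclic: the setup (helper419)

`SetupQ x q₀ K T`: `x` is an involution, `K ⊴ C(x)`, `C_{C(x)}(K) = ⟨q₀⟩` is a cyclic 2-group containing `x`,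
`T` is a Sylow 2-subgroup of `C(x)`. (After helper708's `Setup`.)
-/

set_option autoImplicit false

namespace Cfsg.Agent.OddHalf.D6

open Subgroup Cfsg.Agent.GH Cfsg.Agent.GH.L2Aut

/-- The setup with `Q = ⟨q₀⟩`. -/
structure SetupQ {G : Type*} [Group G] (x q₀ : G) (K T : Subgroup G) : Prop where
  xx : x * x = 1
  x1 : x ≠ 1
  Kx : ∀ k ∈ K, k * x = x * k
  Kn : ∀ c, c * x = x * c → ∀ k ∈ K, c * k * c⁻¹ ∈ K
  Qx : q₀ * x = x * q₀
  QK : ∀ k ∈ K, q₀ * k = k * q₀
  Q2 : ∃ n, q₀ ^ 2 ^ n = 1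
  Qi : ∀ q ∈ zpowers q₀, q * q = 1 → q = 1 ∨ q = x
  CK : ∀ c, c * x = x * c → (∀ k ∈ K, c * k = k * c) → c ∈ zpowers q₀
  pT : IsPGroup 2 T
  cx : ∀ t ∈ T, t * x = x * t
  /-- `T` is a Sylow 2-subgroup of `C(x)` -/
  syl : ∀ P : Subgroup G, IsPGroup 2 P → (∀ y ∈ P, y * x = x * y) →
    ∃ g, g * x = x * g ∧ ∀ y ∈ P, g * y * g⁻¹ ∈ T

variable {G : Type*} [Group G]

namespace SetupQ

variable {x q₀ : G} {K T : Subgroup G}

/-- elements of `C(x)` act on `K` -/
theorem acts (S : SetupQ x q₀ K T) {c : G} (hc : c * x = x * c) : ∃ α, Acts K c α := by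
  refine exists_acts (S.Kn c hc) ?_
  intro k hk
  have := S.Kn c⁻¹ (Setup.comm_inv hc) k hk
  rwa [inv_inv] at this

theorem ker (S : SetupQ x q₀ K T) {c : G} (hc : c * x = x * c) (h1 : Acts K c 1) :
    c ∈ zpowers q₀ := S.CK c hc h1.comm

/-- `Q` centralizes `x` -/
theorem q_comm (S : SetupQ x q₀ K T) {q : G} (hq : q ∈ zpowers q₀) : q * x = x * q := by
  obtain ⟨i, rfl⟩ := mem_zpowers_iff.1 hq
  exact ((show Commute q₀ x from S.Qx).zpow_left i).eq

/-- `Q` centralizes `K` -/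
theorem q_commK (S : SetupQ x q₀ K T) {q : G} (hq : q ∈ zpowers q₀) : ∀ k ∈ K, q * k = k * q := by
  intro k hk
  obtain ⟨i, rfl⟩ := mem_zpowers_iff.1 hq
  exact ((show Commute q₀ k from S.QK k hk).zpow_left i).eq

/-- `Q ⊴ C(x)` -/
theorem q_norm (S : SetupQ x q₀ K T) {c q : G} (hc : c * x = x * c) (hq : q ∈ zpowers q₀) :
    c * q * c⁻¹ ∈ zpowers q₀ := by
  refine S.CK _ (Setup.comm_mul (Setup.comm_mul hc (S.q_comm hq)) (Setup.comm_inv hc)) ?_
  intro k hk
  have h1 : c⁻¹ * k * c ∈ K := by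
    have := S.Kn c⁻¹ (Setup.comm_inv hc) k hk
    rwa [inv_inv] at this
  have h2 := S.q_commK hq _ h1
  calc c * q * c⁻¹ * k = c * (q * (c⁻¹ * k * c)) * c⁻¹ := by group
    _ = c * (c⁻¹ * k * c * q) * c⁻¹ := by rw [h2]
    _ = k * (c * q * c⁻¹) := by group

theorem pQ (S : SetupQ x q₀ K T) : IsPGroup 2 (zpowers q₀) := TypeA.isPGroup_zpowers S.Q2

/-- `Q ≤ T` -/
theorem qT (S : SetupQ x q₀ K T) {q : G} (hq : q ∈ zpowers q₀) : q ∈ T := by
  obtain ⟨g, hg, h⟩ := S.syl _ S.pQ (fun y hy => S.q_comm hy)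
  have h1 : g⁻¹ * q * g ∈ zpowers q₀ := by
    have := S.q_norm (Setup.comm_inv hg) hq
    rwa [inv_inv] at this
  have h2 := h _ h1
  rwa [show g * (g⁻¹ * q * g) * g⁻¹ = q by group] at h2

/-- `x ∈ Q` -/
theorem xQ (S : SetupQ x q₀ K T) : x ∈ zpowers q₀ :=
  S.CK x rfl fun k hk => (S.Kx k hk).symm

theorem xT (S : SetupQ x q₀ K T) : x ∈ T := S.qT S.xQ

/-- a 2-group in `C(x)` containing `T` is `T` -/
theorem max [Finite G] (S : SetupQ x q₀ K T) {P : Subgroup G} (hP : IsPGroup 2 P) (hTP : T ≤ P)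
    (h : ∀ y ∈ P, y * x = x * y) : P ≤ T := by
  obtain ⟨g, -, hg⟩ := S.syl P hP h
  have h1 : Nat.card P ≤ Nat.card T := by
    refine Nat.card_le_card_of_injective (fun y : P => (⟨g * y * g⁻¹, hg y y.2⟩ : T)) ?_
    intro a b hab
    have := congrArg Subtype.val hab
    exact Subtype.ext (mul_left_cancel (mul_right_cancel this))
  exact (Subgroup.eq_of_le_of_card_ge hTP h1).ge

/-- a 2-element of `C(x)` normalizing `T` is in `T` -/
theorem mem_of_norm [Finite G] (S : SetupQ x q₀ K T) {y : G} (h2 : ∃ n, y ^ 2 ^ n = 1)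
    (hy : y * x = x * y) (hn : ∀ t ∈ T, y * t * y⁻¹ ∈ T) : y ∈ T := by
  have hy' : zpowers y ≤ normalizer (T : Set G) := by
    rw [zpowers_le]
    exact mem_normalizer_fintype hn
  have h3 : IsPGroup 2 (T ⊔ zpowers y : Subgroup G) := isPGroup_sup S.pT (isPGroup_zpowers h2) hy'
  have h4 := S.max h3 le_sup_left (by
    have h5 : T ⊔ zpowers y ≤ centralizer ({x} : Set G) := by
      refine sup_le (fun t ht => mem_centralizer_singleton_iff.2 (S.cx t ht)) ?_
      rw [zpowers_le]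
      exact mem_centralizer_singleton_iff.2 hy
    intro t ht
    exact mem_centralizer_singleton_iff.1 (h5 ht))
  exact h4 (mem_sup_right (mem_zpowers y))

/-- `T ∩ K` is a Sylow 2-subgroup of `K` -/
theorem sylK [Finite G] (S : SetupQ x q₀ K T) :
    ∃ P : Sylow 2 K, (P : Subgroup K) = T.subgroupOf K := by
  have h2 : IsPGroup 2 (T.subgroupOf K) := by
    have h3 : IsPGroup 2 ((T.subgroupOf K).map K.subtype) := by
      refine S.pT.to_le ?_
      rintro _ ⟨y, hy, rfl⟩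
      exact hy
    exact IsPGroup.of_injective h3 ((T.subgroupOf K).equivMapOfInjective K.subtype
      K.subtype_injective).toMonoidHom (MulEquiv.injective _)
  obtain ⟨P, hP⟩ := h2.exists_le_sylow
  refine ⟨P, (Subgroup.eq_of_le_of_card_ge hP ?_).symm⟩
  have h3 : IsPGroup 2 ((P : Subgroup K).map K.subtype) := P.isPGroup'.map _
  obtain ⟨g, hg, h⟩ := S.syl _ h3 (by
    rintro _ ⟨y, -, rfl⟩
    exact S.Kx y y.2)
  refine Nat.card_le_card_of_injective
    (fun y : (P : Subgroup K) => (⟨⟨g * ((y : K) : G) * g⁻¹, S.Kn g hg _ (y : K).2⟩,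
      mem_subgroupOf.2 (h _ ⟨y, y.2, rfl⟩)⟩ : T.subgroupOf K)) ?_
  intro a b hab
  have h4 : g * ((a : K) : G) * g⁻¹ = g * ((b : K) : G) * g⁻¹ :=
    congrArg (fun z : T.subgroupOf K => ((z : K) : G)) hab
  exact Subtype.ext (Subtype.ext (mul_left_cancel (mul_right_cancel h4)))

/-- `T` has sectional rank at most 4 -/
theorem rank_T [Finite G] (S : SetupQ x q₀ K T) {F : Type*} [Field F] [Finite F]
    (R : L2Aut.Rep F K) : SectionalPRankLE 2 4 T := by
  have hle : T ≤ normalizer (K : Set G) := fun t ht =>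
    mem_normalizer_fintype fun k hk => S.Kn t (S.cx t ht) k hk
  let f : T →* MulAut K := K.normalizerMonoidHom.comp (Subgroup.inclusion hle)
  have hf : ∀ t : T, Acts K t (f t) := fun t k => rfl
  have h1 : SectionalPRankLE 2 1 f.ker := by
    refine rank_of_zpowers (c := (⟨q₀, S.qT (mem_zpowers q₀)⟩ : T)) ?_
    intro t ht
    have h2 := hf t
    rw [MonoidHom.mem_ker] at ht
    rw [ht] at h2
    obtain ⟨i, hi⟩ := mem_zpowers_iff.1 (S.ker (S.cx t t.2) h2)
    exact mem_zpowers_iff.2 ⟨i, Subtype.ext hi⟩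
  have h2 : SectionalPRankLE 2 3 f.range := by
    exact rank_aut R _ (IsPGroup.of_surjective S.pT f.rangeRestrict f.rangeRestrict_surjective)
  exact Rank.of_extension f h1 h2

theorem exists_grow [Finite G] (S : SetupQ x q₀ K T) {F : Type*} [Field F] [Finite F]
    (R : L2Aut.Rep F K) (h : ¬ SectionalPRankLE 2 4 G) :
    ∃ s, (∀ t ∈ T, s * t * s⁻¹ ∈ T) ∧ s * s ∈ T ∧ s ∉ T ∧ s * x ≠ x * s ∧ ∃ n, s ^ 2 ^ n = 1 := by
  obtain ⟨S2, hTS⟩ := S.pT.exists_le_sylow
  have hlt : T < (S2 : Subgroup G) := by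
    refine lt_of_le_of_ne hTS ?_
    rintro rfl
    exact h ((Rank.sylow_iff S2).1 (S.rank_T R))
  have : Group.IsNilpotent (S2 : Subgroup G) := S2.isPGroup'.isNilpotent
  obtain ⟨y, hyS, hyT, hyN⟩ :=
    Cfsg.Agent.Transfer.FrobeniusFusion.exists_mem_normalizer_notMem hlt
  obtain ⟨n, hn⟩ := pow_of_mem S2.isPGroup' hyS
  obtain ⟨m, hm1, hm2⟩ : ∃ m, y ^ 2 ^ m ∉ T ∧ y ^ 2 ^ (m + 1) ∈ T := by
    have h1 : y ^ 2 ^ n ∈ T := by rw [hn]; exact one_mem T
    clear hn
    induction n with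
    | zero => rw [pow_zero, pow_one] at h1; exact absurd h1 hyT
    | succ n ih =>
      by_cases h2 : y ^ 2 ^ n ∈ T
      · exact ih h2
      · exact ⟨n, h2, h1⟩
  have hN : y ^ 2 ^ m ∈ normalizer (T : Set G) := (normalizer (T : Set G)).pow_mem hyN _
  have hc : ∀ t ∈ T, y ^ 2 ^ m * t * (y ^ 2 ^ m)⁻¹ ∈ T := fun t ht =>
    (mem_normalizer_iff.1 hN t).1 ht
  obtain ⟨k, hk⟩ := pow_of_mem S2.isPGroup' ((S2 : Subgroup G).pow_mem hyS (2 ^ m))
  refine ⟨y ^ 2 ^ m, hc, ?_, hm1, ?_, k, hk⟩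
  · rw [← pow_add, ← two_mul, ← pow_succ']; exact hm2
  · intro h3
    exact hm1 (S.mem_of_norm ⟨k, hk⟩ h3 hc)

/-- helper837's frame -/
theorem frQ (S : SetupQ x q₀ K T) {z : G} (zK : z ∈ K) (zz : z * z = 1) (z1 : z ≠ 1) :
    FrQ x z q₀ K where
  xx := S.xx
  Kx := S.Kx
  Kn := S.Kn
  Qx := S.Qx
  QK := S.QK
  Q2 := S.Q2
  Qi := S.Qi
  CK := S.CK
  zK := zK
  zz := zz
  z1 := z1

end SetupQ

end Cfsg.Agent.OddHalf.D6

end

-- merged: Cfsg.Agent.OddHalf.D6.Main4
section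

/-!
# ODD D6, `K = L₂(q)`, `q ≠ 9`, `|Q| ≥ 4` (helper419, after helper446's second proof)
-/

set_option autoImplicit false

namespace Cfsg.Agent.OddHalf.D6

open Subgroup Cfsg.Agent.GH Cfsg.Agent.GH.L2Aut

variable {G : Type*} [Group G]

namespace SetupQ

variable {x q₀ : G} {K T : Subgroup G}

/-- `s` normalizes `T`, `s² ∈ T`, and moves `x` to `z` -/
structure Sw (x z s : G) (T : Subgroup G) : Prop where
  sT : ∀ t ∈ T, s * t * s⁻¹ ∈ T
  ss : s * s ∈ T
  zx : z ≠ x
  sx : s * x * s⁻¹ = z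

namespace Sw

variable {z s : G}

theorem sT' (w : Sw x z s T) {t : G} (ht : t ∈ T) : s⁻¹ * t * s ∈ T := by
  have h1 := T.mul_mem (T.mul_mem (T.inv_mem w.ss) (w.sT t ht)) w.ss
  rwa [show (s * s)⁻¹ * (s * t * s⁻¹) * (s * s) = s⁻¹ * t * s by group] at h1

theorem sx' (w : Sw x z s T) : s⁻¹ * z * s = x := by
  rw [← w.sx]; group

theorem zT (S : SetupQ x q₀ K T) (w : Sw x z s T) : z ∈ T := by
  rw [← w.sx]; exact w.sT x S.xT

theorem zz (S : SetupQ x q₀ K T) (w : Sw x z s T) : z * z = 1 := by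
  rw [← w.sx, show s * x * s⁻¹ * (s * x * s⁻¹) = s * (x * x) * s⁻¹ by group, S.xx]; group

theorem z1 (S : SetupQ x q₀ K T) (w : Sw x z s T) : z ≠ 1 := by
  intro h
  apply S.x1
  rw [← w.sx', h]; group

theorem cz (S : SetupQ x q₀ K T) (w : Sw x z s T) {t : G} (ht : t ∈ T) : t * z = z * t := by
  have h1 := S.cx _ (w.sT' ht)
  rw [← w.sx]
  calc t * (s * x * s⁻¹) = s * (s⁻¹ * t * s * x) * s⁻¹ := by group
    _ = s * (x * (s⁻¹ * t * s)) * s⁻¹ := by rw [h1]
    _ = s * x * s⁻¹ * t := by group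

theorem sz (S : SetupQ x q₀ K T) (w : Sw x z s T) : s * z * s⁻¹ = x := by
  rw [← w.sx, show s * (s * x * s⁻¹) * s⁻¹ = s * s * x * (s * s)⁻¹ by group, S.cx _ w.ss]
  group

theorem sz' (S : SetupQ x q₀ K T) (w : Sw x z s T) : s⁻¹ * x * s = z := by
  nth_rw 1 [← w.sz S]; group

/-- conjugation by `s` maps `C(x) ∩ C(z)` to itself -/
theorem conj_x (w : Sw x z s T) {y : G} (hy : y * x = x * y) : s * y * s⁻¹ * z = z * (s * y * s⁻¹) := by
  rw [← w.sx]
  calc s * y * s⁻¹ * (s * x * s⁻¹) = s * (y * x) * s⁻¹ := by group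
    _ = s * (x * y) * s⁻¹ := by rw [hy]
    _ = s * x * s⁻¹ * (s * y * s⁻¹) := by group

theorem conj_z (S : SetupQ x q₀ K T) (w : Sw x z s T) {y : G} (hy : y * z = z * y) :
    s * y * s⁻¹ * x = x * (s * y * s⁻¹) := by
  have h := w.sz S
  calc s * y * s⁻¹ * x = s * y * s⁻¹ * (s * z * s⁻¹) := by rw [h]
    _ = s * (y * z) * s⁻¹ := by group
    _ = s * (z * y) * s⁻¹ := by rw [hy]
    _ = s * z * s⁻¹ * (s * y * s⁻¹) := by group
    _ = x * (s * y * s⁻¹) := by rw [h]

/-- `Q ∩ Q^s = 1` -/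
theorem qq (S : SetupQ x q₀ K T) (w : Sw x z s T) {y : G} (h1 : y ∈ zpowers q₀)
    (h2 : s⁻¹ * y * s ∈ zpowers q₀) : y = 1 := by
  by_contra hy
  obtain ⟨m, hm1, hm2⟩ := exists_pow_two (pow_of_mem S.pQ h1) hy
  have h3 : y ^ 2 ^ m = x := (S.Qi _ ((zpowers q₀).pow_mem h1 _) hm2).resolve_left hm1
  have h4 : (s⁻¹ * y * s) ^ 2 ^ m = z := by
    have : (s⁻¹ * y * s) ^ 2 ^ m = s⁻¹ * y ^ 2 ^ m * s := by
      have := conj_pow (a := s⁻¹) (b := y) (i := 2 ^ m)
      rwa [inv_inv] at this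
    rw [this, h3, w.sz' S]
  have h5 := S.Qi _ ((zpowers q₀).pow_mem h2 (2 ^ m)) (by rw [h4]; exact w.zz S)
  rw [h4] at h5
  exact h5.elim (w.z1 S) w.zx

/-- `T ∩ Q^s K`-elements: `z` is a power of every non-trivial element of `Q^s` -/
theorem z_pow (S : SetupQ x q₀ K T) (w : Sw x z s T) {y : G} (hy : y ≠ 1)
    (h2 : s⁻¹ * y * s ∈ zpowers q₀) : ∃ m : ℕ, y ^ m = z := by
  have h1 : s⁻¹ * y * s ≠ 1 := by
    intro h
    apply hy
    rw [show y = s * (s⁻¹ * y * s) * s⁻¹ by group, h]; group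
  obtain ⟨m, hm1, hm2⟩ := exists_pow_two (pow_of_mem S.pQ h2) h1
  have h3 := (S.Qi _ ((zpowers q₀).pow_mem h2 _) hm2).resolve_left hm1
  refine ⟨2 ^ m, ?_⟩
  have : (s⁻¹ * y * s) ^ 2 ^ m = s⁻¹ * y ^ 2 ^ m * s := by
    have := conj_pow (a := s⁻¹) (b := y) (i := 2 ^ m)
    rwa [inv_inv] at this
  rw [this] at h3
  rw [← w.sx, ← h3]; group

end Sw

/-- an element of `T` centralizing `T ∩ K` has its square in `Q` -/
theorem sq_of_cent [Finite G] (S : SetupQ x q₀ K T) {F : Type*} [Field F] [Finite F]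
    (R : L2Aut.Rep F K) {t : G} (ht : t ∈ T) (h : ∀ d ∈ T, d ∈ K → t * d = d * t)
    {α : MulAut K} (hα : Acts K t α) : α * α = 1 := by
  obtain ⟨P, hP⟩ := S.sylK
  refine R.cent_syl P (hα.pow_one (pow_of_mem S.pT ht)) fun p hp => hα.fix (h p ?_ p.2)
  have : p ∈ T.subgroupOf K := by rw [← hP]; exact hp
  exact this

/-- `x ^ s = z` lies in `K`, and some element of `Q^s` does not centralize `T ∩ K` -/
theorem z_mem [Finite G] (S : SetupQ x q₀ K T) {z s : G} (w : Sw x z s T)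
    {F : Type*} [Field F] [Finite F] (R : L2Aut.Rep F K) (hq : q₀ * q₀ ≠ 1) :
    z ∈ K ∧ ∃ p ∈ T, ∃ d ∈ T, d ∈ K ∧ p * d ≠ d * p := by
  set p := s * q₀ * s⁻¹ with hp
  have hpT : p ∈ T := w.sT _ (S.qT (mem_zpowers q₀))
  have hp1 : s⁻¹ * p * s = q₀ := by rw [hp]; group
  obtain ⟨d, hdT, hdK, hd⟩ : ∃ d ∈ T, d ∈ K ∧ p * d ≠ d * p := by
    by_contra hcon
    push Not at hcon
    obtain ⟨α, hα⟩ := S.acts (S.cx p hpT)
    have h1 := S.sq_of_cent R hpT hcon hα
    have h2 : p * p ∈ zpowers q₀ := S.ker (S.cx _ (T.mul_mem hpT hpT)) (h1 ▸ hα.mul hα)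
    have h3 : s⁻¹ * (p * p) * s = q₀ * q₀ := by
      calc s⁻¹ * (p * p) * s = (s⁻¹ * p * s) * (s⁻¹ * p * s) := by group
        _ = q₀ * q₀ := by rw [hp1]
    have h4 := w.qq S h2 (by rw [h3]; exact mul_mem (mem_zpowers q₀) (mem_zpowers q₀))
    apply hq
    rw [← h3, h4]; group
  refine ⟨?_, p, hpT, d, hdT, hdK, hd⟩
  set e := p * d * p⁻¹ * d⁻¹ with he
  have he1 : e ≠ 1 := by
    intro h
    rw [he, mul_inv_eq_one, mul_inv_eq_iff_eq_mul] at h
    exact hd h
  have heK : e ∈ K := K.mul_mem (S.Kn p (S.cx p hpT) d hdK) (K.inv_mem hdK)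
  have heQ : s⁻¹ * e * s ∈ zpowers q₀ := by
    have h1 : s⁻¹ * e * s = q₀ * ((s⁻¹ * d * s) * q₀⁻¹ * (s⁻¹ * d * s)⁻¹) := by
      rw [he, hp]; group
    rw [h1]
    exact mul_mem (mem_zpowers q₀) (S.q_norm (S.cx _ (w.sT' hdT)) (inv_mem (mem_zpowers q₀)))
  obtain ⟨m, hm⟩ := w.z_pow S he1 heQ
  rw [← hm]
  exact K.pow_mem heK m

theorem xK (S : SetupQ x q₀ K T) {F : Type*} [Field F] [Finite F] (R : L2Aut.Rep F K) : x ∉ K := by
  intro h
  have h1 : (⟨x, h⟩ : K) ∈ Subgroup.center K := by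
    rw [Subgroup.mem_center_iff]
    intro k
    exact Subtype.ext (S.Kx k k.2)
  rw [R.center_eq_bot, mem_bot] at h1
  exact S.x1 (congrArg Subtype.val h1)

/-- central involutions of `T` in `K` -/
theorem KZ [Finite G] (S : SetupQ x q₀ K T) {z s : G} (w : Sw x z s T) (zK : z ∈ K)
    {F : Type*} [Field F] [Finite F] (R : L2Aut.Rep F K)
    (hne : ∃ p ∈ T, ∃ d ∈ T, d ∈ K ∧ p * d ≠ d * p) {e : G} (heK : e ∈ K) (ee : e * e = 1)
    (he : ∀ t ∈ T, t * e = e * t) : e = 1 ∨ e = z := by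
  by_contra hcon
  rw [not_or] at hcon
  obtain ⟨p, hpT, d, hdT, hdK, hpd⟩ := hne
  have hf : Four (⟨z, zK⟩ : K) ⟨e, heK⟩ :=
    { aa := Subtype.ext (w.zz S)
      bb := Subtype.ext ee
      a1 := fun h => w.z1 S (congrArg Subtype.val h)
      b1 := fun h => hcon.1 (congrArg Subtype.val h)
      ne := fun h => hcon.2 (congrArg Subtype.val h).symm
      comm := Subtype.ext (he z (w.zT S)) }
  have h1 : MulAut.conj (⟨d, hdK⟩ : K) ∈ R.PGL := R.conj_mem_PGL _
  have h2 : MulAut.conj (⟨d, hdK⟩ : K) ⟨z, zK⟩ = ⟨z, zK⟩ := by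
    rw [MulAut.conj_apply]
    exact Subtype.ext (by show d * z * d⁻¹ = z; rw [w.cz S hdT]; group)
  have h3 : MulAut.conj (⟨d, hdK⟩ : K) ⟨e, heK⟩ = ⟨e, heK⟩ := by
    rw [MulAut.conj_apply]
    exact Subtype.ext (by show d * e * d⁻¹ = e; rw [he d hdT]; group)
  have h4 := R.fix_four hf h1 h2 h3
  have hinj : Function.Injective (MulAut.conj : K →* MulAut K) := R.conj_injective
  have h5 : d = 1 ∨ d = z ∨ d = e ∨ d = z * e := by
    rcases h4 with h | h | h | h
    · left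
      have := hinj (h.trans (map_one (MulAut.conj : K →* MulAut K)).symm)
      exact congrArg Subtype.val this
    · right; left; exact congrArg Subtype.val (hinj h)
    · right; right; left; exact congrArg Subtype.val (hinj h)
    · right; right; right; exact congrArg Subtype.val (hinj h)
  apply hpd
  rcases h5 with rfl | rfl | rfl | rfl
  · rw [mul_one, one_mul]
  · exact w.cz S hpT
  · exact he p hpT
  · rw [← mul_assoc, w.cz S hpT, mul_assoc, he p hpT, mul_assoc]

/-- `D ∩ D^s = 1` -/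
theorem dd [Finite G] (S : SetupQ x q₀ K T) {z s : G} (w : Sw x z s T) (zK : z ∈ K)
    {F : Type*} [Field F] [Finite F] (R : L2Aut.Rep F K)
    (hne : ∃ p ∈ T, ∃ d ∈ T, d ∈ K ∧ p * d ≠ d * p) {e : G} (heT : e ∈ T) (heK : e ∈ K)
    (heK' : s⁻¹ * e * s ∈ K) : e = 1 := by
  let N : Subgroup T :=
    { carrier := {y | (y : G) ∈ K ∧ s⁻¹ * y * s ∈ K}
      one_mem' := ⟨one_mem K, by
        show s⁻¹ * 1 * s ∈ K
        rw [mul_one, inv_mul_cancel]; exact one_mem K⟩
      mul_mem' := by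
        rintro a b ⟨ha, ha'⟩ ⟨hb, hb'⟩
        refine ⟨K.mul_mem ha hb, ?_⟩
        show s⁻¹ * ((a : G) * b) * s ∈ K
        rw [show s⁻¹ * ((a : G) * b) * s = (s⁻¹ * a * s) * (s⁻¹ * b * s) by group]
        exact K.mul_mem ha' hb'
      inv_mem' := by
        rintro a ⟨ha, ha'⟩
        refine ⟨K.inv_mem ha, ?_⟩
        show s⁻¹ * ((a : G))⁻¹ * s ∈ K
        rw [show s⁻¹ * ((a : G))⁻¹ * s = (s⁻¹ * a * s)⁻¹ by group]
        exact K.inv_mem ha' }
  have hN : N.Normal := by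
    refine ⟨?_⟩
    rintro a ⟨ha, ha'⟩ ⟨t, ht⟩
    refine ⟨S.Kn t (S.cx t ht) a ha, ?_⟩
    show s⁻¹ * (t * (a : G) * t⁻¹) * s ∈ K
    rw [show s⁻¹ * (t * (a : G) * t⁻¹) * s = (s⁻¹ * t * s) * (s⁻¹ * a * s) * (s⁻¹ * t * s)⁻¹ by group]
    exact S.Kn _ (S.cx _ (w.sT' ht)) _ ha'
  by_contra he1
  have hN1 : N ≠ ⊥ := by
    intro h
    have h1 : (⟨e, heT⟩ : T) ∈ N := ⟨heK, heK'⟩
    rw [h, mem_bot] at h1
    exact he1 (congrArg Subtype.val h1)
  have : Fact (Nat.Prime 2) := ⟨Nat.prime_two⟩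
  obtain ⟨⟨y, hyT⟩, ⟨hyK, hyK'⟩, hyc, hyo⟩ := Transfer.PGroupNormal.exists_mem_inf_center_orderOf S.pT N hN1
  rw [Subgroup.orderOf_mk] at hyo
  have hyy : y * y = 1 := by rw [← pow_two, ← hyo, pow_orderOf_eq_one]
  have hy1 : y ≠ 1 := by
    rintro rfl
    rw [orderOf_one] at hyo
    exact absurd hyo (by norm_num)
  have h2 : ∀ t ∈ T, t * y = y * t := fun t ht =>
    congrArg Subtype.val (Subgroup.mem_center_iff.1 hyc ⟨t, ht⟩)
  have h3 : y = z := (S.KZ w zK R hne (e := y) hyK hyy h2).resolve_left hy1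
  change s⁻¹ * y * s ∈ K at hyK'
  rw [h3, w.sx'] at hyK'
  exact S.xK R hyK'

/-- `D^s` centralizes `D` -/
theorem ds_comm [Finite G] (S : SetupQ x q₀ K T) {z s : G} (w : Sw x z s T) (zK : z ∈ K)
    {F : Type*} [Field F] [Finite F] (R : L2Aut.Rep F K)
    (hne : ∃ p ∈ T, ∃ d ∈ T, d ∈ K ∧ p * d ≠ d * p) {d : G} (hdT : d ∈ T)
    (hdK : s⁻¹ * d * s ∈ K) : ∀ e ∈ T, e ∈ K → d * e = e * d := by
  intro e heT heK
  have h1 : d * e * d⁻¹ * e⁻¹ = 1 := by
    refine S.dd w zK R hne ?_ ?_ ?_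
    · exact T.mul_mem (T.mul_mem (T.mul_mem hdT heT) (T.inv_mem hdT)) (T.inv_mem heT)
    · exact K.mul_mem (S.Kn d (S.cx d hdT) e heK) (K.inv_mem heK)
    · rw [show s⁻¹ * (d * e * d⁻¹ * e⁻¹) * s =
        (s⁻¹ * d * s) * ((s⁻¹ * e * s) * (s⁻¹ * d * s)⁻¹ * (s⁻¹ * e * s)⁻¹) by group]
      exact K.mul_mem hdK (S.Kn _ (S.cx _ (w.sT' heT)) _ (K.inv_mem hdK))
  rw [mul_inv_eq_one, mul_inv_eq_iff_eq_mul] at h1
  exact h1

/-- some element of `D^s` is of field type -/
theorem exists_ftype [Finite G] (S : SetupQ x q₀ K T) {z s : G} (w : Sw x z s T) (zK : z ∈ K)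
    {F : Type*} [Field F] [Finite F] (R : L2Aut.Rep F K)
    (hne : ∃ p ∈ T, ∃ d ∈ T, d ∈ K ∧ p * d ≠ d * p) :
    ∃ t ∈ T, s⁻¹ * t * s ∈ K ∧ ∃ α, Acts K t α ∧ α * α = 1 ∧ R.fld α ≠ 1 := by
  by_contra hcon
  push Not at hcon
  obtain ⟨P, hP⟩ := S.sylK
  have memP : ∀ k : K, k ∈ (P : Subgroup K) ↔ (k : G) ∈ T := by
    intro k; rw [hP, mem_subgroupOf]
  obtain ⟨a, b, ha, hb, hab⟩ := R.exists_four_mem P
  have haT := (memP a).1 ha
  have hbT := (memP b).1 hb
  -- every element of `D^s` of order two is `x v`, `v ∈ D`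
  have key : ∀ y : K, y ∈ (P : Subgroup K) → y * y = 1 → y ≠ 1 →
      ∃ v ∈ T, v ∈ K ∧ s * (y : G) * s⁻¹ = x * v := by
    intro y hy hyy hy1
    set t := s * (y : G) * s⁻¹ with ht
    have hyT := (memP y).1 hy
    have htT : t ∈ T := w.sT _ hyT
    have htK : s⁻¹ * t * s ∈ K := by
      rw [show s⁻¹ * t * s = (y : G) by rw [ht]; group]; exact y.2
    have hc := S.ds_comm w zK R hne htT htK
    obtain ⟨α, hα⟩ := S.acts (S.cx t htT)
    have h1 := S.sq_of_cent R htT hc hα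
    have h2 : R.fld α = 1 := by
      by_contra h
      exact h (hcon t htT htK α hα h1)
    have h3 := R.fix_four hab (R.mem_PGL_iff_fld.2 h2) (hα.fix (hc a haT a.2)) (hα.fix (hc b hbT b.2))
    obtain ⟨v, hvT, hv⟩ : ∃ v : K, (v : G) ∈ T ∧ α = MulAut.conj v := by
      rcases h3 with h | h | h | h
      · exact ⟨1, one_mem T, by rw [h, map_one]⟩
      · exact ⟨a, haT, h⟩
      · exact ⟨b, hbT, h⟩
      · exact ⟨a * b, T.mul_mem haT hbT, h⟩
    have h4 : Acts K (t * (v : G)⁻¹) 1 := by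
      have := hα.mul (Acts.conj v.2).inv
      rwa [hv, mul_inv_cancel] at this
    have h5 : t * (v : G)⁻¹ ∈ zpowers q₀ :=
      S.ker (Setup.comm_mul (S.cx t htT) (Setup.comm_inv (S.Kx v v.2))) h4
    have htt : t * t = 1 := by
      rw [ht, show s * (y : G) * s⁻¹ * (s * y * s⁻¹) = s * ((y : G) * y) * s⁻¹ by group,
        show (y : G) * y = 1 from congrArg Subtype.val hyy]
      group
    have h6 : t * (v : G)⁻¹ * (t * (v : G)⁻¹) = 1 := by
      have h7 : t * (v : G)⁻¹ * (t * (v : G)⁻¹) ∈ zpowers q₀ := mul_mem h5 h5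
      have h8 : t * (v : G)⁻¹ * (t * (v : G)⁻¹) = (v : G)⁻¹ * (v : G)⁻¹ := by
        have h9 := hc v hvT v.2
        have h10 : t * (v : G)⁻¹ = (v : G)⁻¹ * t := by
          rw [eq_inv_mul_iff_mul_eq, ← mul_assoc, ← h9, mul_assoc, mul_inv_cancel, mul_one]
        calc t * (v : G)⁻¹ * (t * (v : G)⁻¹) = (v : G)⁻¹ * t * ((v : G)⁻¹ * t) := by rw [h10]
          _ = (v : G)⁻¹ * (t * (v : G)⁻¹) * t := by group
          _ = (v : G)⁻¹ * ((v : G)⁻¹ * t) * t := by rw [h10]
          _ = (v : G)⁻¹ * (v : G)⁻¹ * (t * t) := by group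
          _ = (v : G)⁻¹ * (v : G)⁻¹ := by rw [htt, mul_one]
      rw [h8] at h7 ⊢
      -- an element of `Q ∩ K` is trivial
      have h9 : (v : G)⁻¹ * (v : G)⁻¹ ∈ K := K.mul_mem (K.inv_mem v.2) (K.inv_mem v.2)
      have h10 : (⟨_, h9⟩ : K) ∈ Subgroup.center K := by
        rw [Subgroup.mem_center_iff]
        intro k
        exact Subtype.ext (S.q_commK h7 k k.2).symm
      rw [R.center_eq_bot, mem_bot] at h10
      exact congrArg Subtype.val h10
    rcases S.Qi _ h5 h6 with h7 | h7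
    · exfalso
      have h8 : t = v := mul_inv_eq_one.1 h7
      have h9 := S.dd w zK R hne htT (h8 ▸ v.2) htK
      apply hy1
      apply Subtype.ext
      show (y : G) = 1
      rw [show (y : G) = s⁻¹ * t * s by rw [ht]; group, h9]; group
    · exact ⟨v, hvT, v.2, by rw [← h7]; group⟩
  obtain ⟨v, hvT, hvK, hv⟩ := key a ha hab.aa hab.a1
  obtain ⟨u, huT, huK, hu⟩ := key b hb hab.bb hab.b1
  have h1 : s * ((a : G) * b) * s⁻¹ = v * u := by
    calc s * ((a : G) * b) * s⁻¹ = (s * a * s⁻¹) * (s * b * s⁻¹) := by group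
      _ = x * v * (x * u) := by rw [hv, hu]
      _ = x * (v * x) * u := by group
      _ = x * (x * v) * u := by rw [S.Kx v hvK]
      _ = (x * x) * (v * u) := by group
      _ = v * u := by rw [S.xx, one_mul]
  have h2 := S.dd w zK R hne (T.mul_mem hvT huT) (K.mul_mem hvK huK) (by
    rw [← h1, show s⁻¹ * (s * ((a : G) * b) * s⁻¹) * s = a * b by group]
    exact K.mul_mem a.2 b.2)
  rw [← h1] at h2
  have h3 : (a : G) * b = 1 := by
    calc (a : G) * b = s⁻¹ * (s * ((a : G) * b) * s⁻¹) * s := by group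
      _ = 1 := by rw [h2]; group
  exact hab.right.b1 (Subtype.ext h3)

/-- a non-trivial element of odd order is not inverted and centralized at once -/
theorem not_both {a c : G} (ho : Odd (orderOf a)) (h1 : a ≠ 1) (h2 : c * a * c⁻¹ = a⁻¹)
    (h3 : c * a = a * c) : False := by
  rw [h3, mul_inv_cancel_right] at h2
  have h4 : a * a = 1 := by
    nth_rw 2 [h2]; exact mul_inv_cancel a
  exact h1 (eq_one_of_sq h4 ho)

/-- **`|Q| ≥ 4`, `q ≠ 9`**: no group of sectional 2-rank at least 5 -/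
theorem false_of_q [Finite G] (S : SetupQ x q₀ K T) {F : Type*} [Field F] [Finite F]
    (R : L2Aut.Rep F K) (hF : Nat.card F ≠ 9) (hq : q₀ * q₀ ≠ 1) (hr : ¬ SectionalPRankLE 2 4 G)
    (W : ∀ u : G, u * u = 1 → u ≠ 1 → World u) : False := by
  obtain ⟨s, hsT, hss, -, hsx, -⟩ := S.exists_grow R hr
  obtain ⟨z, hz⟩ : ∃ z, z = s * x * s⁻¹ := ⟨_, rfl⟩
  have w : Sw x z s T := ⟨hsT, hss, fun h => hsx (mul_inv_eq_iff_eq_mul.1 (hz ▸ h)), hz.symm⟩
  obtain ⟨zK, hne⟩ := S.z_mem w R hq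
  obtain ⟨t, htT, htK, φ, hφ, hφφ, hφf⟩ := S.exists_ftype w zK R hne
  have htD := S.ds_comm w zK R hne htT htK
  obtain ⟨P, hP⟩ := S.sylK
  have memP : ∀ k : K, k ∈ (P : Subgroup K) ↔ (k : G) ∈ T := by
    intro k; rw [hP, mem_subgroupOf]
  have f := S.frQ zK (w.zz S) (w.z1 S)
  -- `A₀ ≠ 1`
  obtain ⟨a, haz, hao, ha1, -⟩ := exists_inverted R hφφ hφf (z := ⟨z, zK⟩) (Subtype.ext (w.zz S))
    (fun h => w.z1 S (congrArg Subtype.val h)) P (fun p hp => hφ.fix (htD p ((memP p).1 hp) p.2))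
    ((memP ⟨z, zK⟩).2 (w.zT S)) (fun p hp => Subtype.ext (w.cz S ((memP p).1 hp))) hF
  have haA : (a : G) ∈ A0 z K := (f.mem_A0 R).2 ⟨a.2, congrArg Subtype.val haz, by
    rw [Subgroup.orderOf_coe]; exact hao⟩
  have ha1' : (a : G) ≠ 1 := fun h => ha1 (Subtype.ext h)
  have hao' : Odd (orderOf (a : G)) := ((f.mem_A0 R).1 haA).2.2
  -- the dihedral group
  obtain ⟨d, r, hd⟩ := R.exists_dih P
  have hdd : d * d ≠ 1 := R.ftype_dd (fun h1 => hφf (R.mem_PGL_iff_fld.1 h1)) hφφ P hd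
  have hdT : (d : G) ∈ T := (memP d).1 hd.d_mem
  have hrT : (r : G) ∈ T := (memP r).1 hd.r_mem
  have hrd : (r : G) * d ≠ d * r := by
    intro h1
    apply hdd
    have h2 := hd.rd
    rw [show r * d = d * r from Subtype.ext h1, mul_inv_cancel_right] at h2
    nth_rw 2 [h2]
    exact mul_inv_cancel d
  have hrz : (r : G) ≠ z := by
    intro h
    exact hrd (by rw [h]; exact (w.cz S hdT).symm)
  have hrinv := f.inv_A0 R r.2 (w.cz S hrT) (congrArg Subtype.val hd.rr)
    (fun h => hd.r1 (Subtype.ext h)) hrz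
  -- `d` centralizes `A₀`
  have hdr : (d : G) * r * (d * r) = 1 := by
    have := hd.pow_r_sq 1
    rw [zpow_one] at this
    exact congrArg Subtype.val this
  have hdrinv := f.inv_A0 R (v := (d : G) * r) (K.mul_mem d.2 r.2)
    (w.cz S (T.mul_mem hdT hrT)) hdr
    (by
      intro h
      apply hrd
      have h1 : (r : G) = (d : G)⁻¹ := eq_inv_of_mul_eq_one_right h
      rw [h1, inv_mul_cancel, mul_inv_cancel])
    (by
      intro h
      apply hrd
      have h1 : (d : G) * (d * r) = d * r * d := by rw [h]; exact w.cz S hdT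
      rw [mul_assoc (d : G) r d] at h1
      exact (mul_left_cancel h1).symm)
  have hdA : ∀ b ∈ A0 z K, (d : G) * b * (d : G)⁻¹ = b := by
    intro b hb
    have h1 := hrinv b hb
    have h2 := hdrinv b⁻¹ (inv_mem hb)
    rw [inv_inv] at h2
    have h3 : (r : G) * b⁻¹ * (r : G)⁻¹ = b := by
      rw [← h1, show (r : G) * (r * b * (r : G)⁻¹) * (r : G)⁻¹ = (r * r) * b * ((r : G) * r)⁻¹ by group,
        show (r : G) * r = 1 from congrArg Subtype.val hd.rr]
      group
    calc (d : G) * b * (d : G)⁻¹ = d * (r * b⁻¹ * (r : G)⁻¹) * (d : G)⁻¹ := by rw [h3]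
      _ = (d * r) * b⁻¹ * ((d : G) * r)⁻¹ := by group
      _ = b := h2
  -- `A₀^s = A₀`
  obtain ⟨-, -, -, -, hres⟩ := f.A0_data R
  have hAs : ∀ b ∈ A0 z K, s * b * s⁻¹ ∈ A0 z K := by
    intro b hb
    obtain ⟨hbK, hbz, hbo⟩ := (f.mem_A0 R).1 hb
    have h1 := hres (s * b * s⁻¹) (s * (r : G) * s⁻¹) (w.conj_z S hbz)
      (w.conj_z S (w.cz S hrT)) (w.conj_x (f.Kx b hbK)) (w.conj_x (f.Kx r r.2)) (by
        have h4 : orderOf (s * b * s⁻¹) = orderOf b :=
          orderOf_injective (MulAut.conj s).toMonoidHom (MulAut.conj s).injective b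
        rw [h4]; exact hbo)
    have h2 : s * b * s⁻¹ * (s * (r : G) * s⁻¹) * (s * b * s⁻¹)⁻¹ * (s * (r : G) * s⁻¹)⁻¹ =
        (s * b * s⁻¹) ^ 2 := by
      calc s * b * s⁻¹ * (s * (r : G) * s⁻¹) * (s * b * s⁻¹)⁻¹ * (s * (r : G) * s⁻¹)⁻¹
          = s * b * ((r : G) * b * (r : G)⁻¹)⁻¹ * s⁻¹ := by group
        _ = (s * b * s⁻¹) ^ 2 := by rw [hrinv b hb, pow_two]; group
    rw [h2] at h1
    obtain ⟨k, hk⟩ := hbo
    have h3 : s * b * s⁻¹ = ((s * b * s⁻¹) ^ 2) ^ (k + 1) := by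
      have h5 : (s * b * s⁻¹) ^ (2 * k + 1) = 1 := by
        rw [conj_pow, ← hk, pow_orderOf_eq_one]; group
      rw [← pow_mul, show 2 * (k + 1) = 2 * k + 1 + 1 by ring, pow_succ, h5, one_mul]
    rw [h3]
    exact pow_mem h1 _
  have hAs' : ∀ b ∈ A0 z K, s⁻¹ * b * s ∈ A0 z K := by
    intro b hb
    have h1 := f.A0_norm R (hAs b hb) (c := (s * s)⁻¹) (Setup.comm_inv (S.cx _ hss))
      (by
        have := w.cz S (T.inv_mem hss)
        exact this)
    rwa [show (s * s)⁻¹ * (s * b * s⁻¹) * (s * s)⁻¹⁻¹ = s⁻¹ * b * s by group] at h1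
  -- `c = d^s` and `v = r^s`
  obtain ⟨c, hc⟩ : ∃ c, c = s * (d : G) * s⁻¹ := ⟨_, rfl⟩
  obtain ⟨v, hv⟩ : ∃ v, v = s * (r : G) * s⁻¹ := ⟨_, rfl⟩
  have hcT : c ∈ T := hc ▸ w.sT _ hdT
  have hvT : v ∈ T := hv ▸ w.sT _ hrT
  have hcK : s⁻¹ * c * s ∈ K := by
    rw [hc, show s⁻¹ * (s * (d : G) * s⁻¹) * s = d by group]; exact d.2
  have hvK : s⁻¹ * v * s ∈ K := by
    rw [hv, show s⁻¹ * (s * (r : G) * s⁻¹) * s = r by group]; exact r.2
  have hcD := S.ds_comm w zK R hne hcT hcK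
  have hvD := S.ds_comm w zK R hne hvT hvK
  have hcA : ∀ b ∈ A0 z K, c * b * c⁻¹ = b := by
    intro b hb
    have h1 := hdA _ (hAs' b hb)
    rw [hc]
    calc s * (d : G) * s⁻¹ * b * (s * (d : G) * s⁻¹)⁻¹ = s * (d * (s⁻¹ * b * s) * (d : G)⁻¹) * s⁻¹ := by
          group
      _ = b := by rw [h1]; group
  have hvA : ∀ b ∈ A0 z K, v * b * v⁻¹ = b⁻¹ := by
    intro b hb
    have h1 := hrinv _ (hAs' b hb)
    rw [hv]
    calc s * (r : G) * s⁻¹ * b * (s * (r : G) * s⁻¹)⁻¹ = s * (r * (s⁻¹ * b * s) * (r : G)⁻¹) * s⁻¹ := by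
          group
      _ = b⁻¹ := by rw [h1]; group
  have hvc : v * c ≠ c * v := by
    intro h
    apply hrd
    rw [hv, hc] at h
    calc (r : G) * d = s⁻¹ * (s * (r : G) * s⁻¹ * (s * (d : G) * s⁻¹)) * s := by group
      _ = s⁻¹ * (s * (d : G) * s⁻¹ * (s * (r : G) * s⁻¹)) * s := by rw [h]
      _ = d * r := by group
  -- linear elements centralizing `D`
  have hfour : Four (⟨z, zK⟩ : K) r :=
    ⟨Subtype.ext (w.zz S), hd.rr, fun h => w.z1 S (congrArg Subtype.val h), hd.r1,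
      fun h => hrz (congrArg Subtype.val h).symm, Subtype.ext (w.cz S hrT).symm⟩
  have lin : ∀ y ∈ T, (∀ e ∈ T, e ∈ K → y * e = e * y) → ∀ α, Acts K y α → R.fld α = 1 →
      ∃ e ∈ zpowers q₀, y = e ∨ y = e * z := by
    intro y hy hyD α hα hαf
    have h1 : α ⟨z, zK⟩ = ⟨z, zK⟩ := hα.fix (hyD z (w.zT S) zK)
    have h2 : α r = r := hα.fix (hyD r hrT r.2)
    have h3 : α d = d := hα.fix (hyD d hdT d.2)
    have hzd : (z : G) * d = d * z := (w.cz S hdT).symm
    rcases R.fix_four hfour (R.mem_PGL_iff_fld.2 hαf) h1 h2 with h4 | h4 | h4 | h4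
    · rw [h4] at hα
      exact ⟨y, S.ker (S.cx y hy) hα, Or.inl rfl⟩
    · have h5 : Acts K (y * z⁻¹) 1 := by
        have := hα.mul (Acts.conj zK).inv
        rwa [h4, mul_inv_cancel] at this
      refine ⟨y * z⁻¹, S.ker (Setup.comm_mul (S.cx y hy) (Setup.comm_inv (S.Kx z zK))) h5,
        Or.inr (by group)⟩
    · exfalso
      rw [h4, MulAut.conj_apply, mul_inv_eq_iff_eq_mul] at h3
      exact hrd (congrArg Subtype.val h3)
    · exfalso
      rw [h4, MulAut.conj_apply, mul_inv_eq_iff_eq_mul] at h3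
      apply hrd
      have h5 : z * (r : G) * d = d * (z * r) := congrArg Subtype.val h3
      rw [← mul_assoc, ← hzd, mul_assoc, mul_assoc] at h5
      exact mul_left_cancel h5
  -- they centralize `A₀`
  have linA : ∀ y, (∃ e ∈ zpowers q₀, y = e ∨ y = e * z) → ∀ b ∈ A0 z K, y * b = b * y := by
    rintro y ⟨e, he, rfl | rfl⟩ b hb
    · exact S.q_commK he b ((f.mem_A0 R).1 hb).1
    · rw [mul_assoc, ← ((f.mem_A0 R).1 hb).2.1, ← mul_assoc, S.q_commK he b ((f.mem_A0 R).1 hb).1,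
        mul_assoc]
  obtain ⟨γ, hγ⟩ := S.acts (S.cx c hcT)
  obtain ⟨ν, hν⟩ := S.acts (S.cx v hvT)
  have hγγ := S.sq_of_cent R hcT hcD hγ
  have hνν := S.sq_of_cent R hvT hvD hν
  have hνf : R.fld ν ≠ 1 := fun h =>
    not_both hao' ha1' (hvA a haA) (linA v (lin v hvT hvD ν hν h) a haA)
  have fsq : ∀ α : MulAut K, α * α = 1 → R.fld α * R.fld α = 1 := fun α h => by
    rw [← map_mul, h, map_one]
  have hγf : R.fld γ = 1 := by
    by_contra h
    have h1 : R.fld γ = R.fld ν := L2One.AutPsl.aut_inv (fsq γ hγγ) h (fsq ν hνν) hνf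
    refine not_both (c := c * v) hao' ha1' ?_ (linA _ (lin (c * v) (T.mul_mem hcT hvT) ?_ _ (hγ.mul hν) ?_)
      a haA)
    · calc c * v * a * (c * v)⁻¹ = c * (v * a * v⁻¹) * c⁻¹ := by group
        _ = (a : G)⁻¹ := by rw [hvA a haA, hcA _ (inv_mem haA)]
    · intro e he heK
      rw [mul_assoc, hvD e he heK, ← mul_assoc, hcD e he heK, mul_assoc]
    · rw [map_mul, h1, fsq ν hνν]
  obtain ⟨e₀, he₀, hce⟩ := lin c hcT hcD γ hγ hγf
  -- `c` commutes with the linear elements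
  have linc : ∀ y, (∃ e ∈ zpowers q₀, y = e ∨ y = e * z) → y * c = c * y := by
    rintro y ⟨e, he, hy⟩
    have h1 : e * e₀ = e₀ * e := zpowers_comm he he₀
    have h2 : e * z = z * e := w.cz S (S.qT he)
    have h3 : e₀ * z = z * e₀ := w.cz S (S.qT he₀)
    have h4 : Commute e e₀ := h1
    have h5 : Commute e z := h2
    have h6 : Commute e₀ z := h3
    have h7 : Commute z z := Commute.refl z
    rcases hy with rfl | rfl <;> rcases hce with rfl | rfl
    · exact h4.eq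
    · exact (h4.mul_right h5).eq
    · exact (h4.mul_left h6.symm).eq
    · exact ((h4.mul_right h5).mul_left (h6.symm.mul_right h7)).eq
  -- the involutions of `Z(T)`
  have hZ : ∀ y ∈ T, y * y = 1 → y ≠ 1 → (∀ t ∈ T, t * y = y * t) →
      y = x ∨ y = x * z ∨ y = x * (x * z) := by
    intro y hy hyy hy1 hyc
    have hyD : ∀ e ∈ T, e ∈ K → y * e = e * y := fun e he _ => (hyc e he).symm
    obtain ⟨α, hα⟩ := S.acts (S.cx y hy)
    have hαα := S.sq_of_cent R hy hyD hα
    have hαf : R.fld α = 1 := by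
      by_contra h
      have h1 : R.fld α = R.fld ν := L2One.AutPsl.aut_inv (fsq α hαα) h (fsq ν hνν) hνf
      have h2 := linc (y * v) (lin (y * v) (T.mul_mem hy hvT) (by
        intro e he heK
        rw [mul_assoc, hvD e he heK, ← mul_assoc, hyD e he heK, mul_assoc]) _ (hα.mul hν) (by
          rw [map_mul, h1, fsq ν hνν]))
      apply hvc
      have h3 := hyc c hcT
      rw [← mul_assoc, h3, mul_assoc, mul_assoc] at h2
      exact mul_left_cancel h2
    obtain ⟨e, he, h⟩ := lin y hy hyD α hα hαf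
    have hez : e * z = z * e := w.cz S (S.qT he)
    have hee : e * e = 1 := by
      rcases h with rfl | rfl
      · exact hyy
      · calc e * e = e * e * (z * z) := by rw [w.zz S, mul_one]
          _ = e * (e * z) * z := by group
          _ = e * (z * e) * z := by rw [hez]
          _ = e * z * (e * z) := by group
          _ = 1 := hyy
    rcases S.Qi e he hee with rfl | rfl
    · rcases h with rfl | rfl
      · exact absurd rfl hy1
      · right; right
        rw [one_mul, ← mul_assoc, S.xx, one_mul]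
    · rcases h with rfl | rfl
      · exact Or.inl rfl
      · exact Or.inr (Or.inl rfl)
  have hzx : z * x = x * z := S.Kx z zK
  have hu1 : x * z ≠ 1 := by
    intro h
    exact w.zx (by rw [← one_mul z, ← S.xx, mul_assoc, h, mul_one])
  have huu : x * z * (x * z) = 1 := by
    calc x * z * (x * z) = x * (z * x) * z := by group
      _ = x * (x * z) * z := by rw [hzx]
      _ = (x * x) * (z * z) := by group
      _ = 1 := by rw [S.xx, w.zz S, one_mul]
  refine (f.balG R hz_mul).false_of_swap hu1 (W _ huu hu1).core (W _ huu hu1).comp' ?_ S.pT S.cx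
    (T := T) ?_ ?_ hZ (s := s) ?_ ?_
  · intro h
    rw [h, mem_bot] at haA
    exact ha1' haA
  · intro t ht
    rw [← mul_assoc, S.cx t ht, mul_assoc, w.cz S ht, mul_assoc]
  · intro P hP hTP hPx _
    exact S.max hP hTP hPx
  · have h1 : s * x = z * s := mul_inv_eq_iff_eq_mul.1 w.sx
    have h2 : s * z = x * s := mul_inv_eq_iff_eq_mul.1 (w.sz S)
    rw [← mul_assoc, h1, mul_assoc, h2, ← mul_assoc, hzx]
  · rw [w.sx, ← mul_assoc, S.xx, one_mul]

end SetupQ

end Cfsg.Agent.OddHalf.D6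

end

-- merged: Cfsg.Agent.OddHalf.D6.LTwoMain
section

/-!
# ODD D6, `K = PSL(2,q)`, `q ≠ 9`: the row (helper419)

`row`: no standard component `K ≅ PSL(2,q)`, `q ≥ 5` odd, `q ≠ 9`, with `C(K)` of cyclic Sylow 2-subgroups.
`row27`, `rowBig`: in the form of `LieOddFam`.
-/

set_option autoImplicit false

namespace Cfsg.Agent.OddHalf.D6.LTwoMain

open Subgroup Cfsg Cfsg.Agent.GH Cfsg.Agent.OddHalf.Iface Cfsg.Agent.OddHalf.Front.FE
open Cfsg.Agent.OddHalf.LieOddFam

universe u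

variable {G : Type u} [Group G]

/-- a Sylow 2-subgroup of `C(x)` -/
theorem exists_T [Finite G] (x : G) : ∃ T : Subgroup G, IsPGroup 2 T ∧ (∀ t ∈ T, t * x = x * t) ∧
    ∀ P : Subgroup G, IsPGroup 2 P → (∀ y ∈ P, y * x = x * y) →
      ∃ g, g * x = x * g ∧ ∀ y ∈ P, g * y * g⁻¹ ∈ T := by
  set H := centralizer ({x} : Set G) with hH
  have : Fact (Nat.Prime 2) := ⟨Nat.prime_two⟩
  obtain ⟨S⟩ : Nonempty (Sylow 2 ↥H) := inferInstance
  refine ⟨(S : Subgroup ↥H).map H.subtype, S.isPGroup'.map _, ?_, ?_⟩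
  · rintro _ ⟨y, -, rfl⟩
    exact mem_centralizer_singleton_iff.1 y.2
  · intro P hP hPx
    have hPH : P ≤ H := fun y hy => mem_centralizer_singleton_iff.2 (hPx y hy)
    have h1 : IsPGroup 2 (P.subgroupOf H) := hP.comap_subtype
    obtain ⟨Q, hQ⟩ := h1.exists_le_sylow
    obtain ⟨g, hg⟩ := MulAction.exists_smul_eq ↥H Q S
    refine ⟨g, mem_centralizer_singleton_iff.1 g.2, fun y hy => ?_⟩
    have h2 : (⟨y, hPH hy⟩ : ↥H) ∈ (Q : Subgroup ↥H) := hQ (mem_subgroupOf.2 hy)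
    have h3 : g * ⟨y, hPH hy⟩ * g⁻¹ ∈ (S : Subgroup ↥H) := by
      rw [← hg, Sylow.coe_subgroup_smul]
      exact Subgroup.smul_mem_pointwise_smul _ (MulAut.conj g) _ h2
    exact ⟨_, h3, rfl⟩

/-- all components are `PSL(2,q)`'s, `q` odd -/
theorem world (C : Ctx G) {K : Subgroup G} (S : Std G K) (hK : IsL2o ↥K) (u : G)
    (huu : u * u = 1) (hu1 : u ≠ 1) : World u := by
  have hu : orderOf u = 2 := orderOf_eq_prime (by rw [pow_two]; exact huu) hu1
  refine ⟨?_, ?_⟩
  · have h1 := C.bal u hu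
    rw [centralizerPPrimeCore, Subgroup.map_eq_bot_iff_of_injective _
      (centralizer ({u} : Set G)).subtype_injective] at h1
    exact h1
  · rintro L ⟨L', hL', rfl⟩
    have h1 : CompOf u (L'.map (centralizer ({u} : Set G)).subtype) := by
      refine ⟨Subgroup.map_subtype_le L', ?_⟩
      rw [Subgroup.subgroupOf,
        Subgroup.comap_map_eq_self_of_injective (centralizer ({u} : Set G)).subtype_injective]
      exact hL'
    obtain ⟨F, _, _, h2, -, ⟨e⟩⟩ := S.pref hK u _ hu h1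
    exact ⟨F, _, inferInstance, ⟨L2Aut.Rep.ofEquiv (L2Aut.two_ne_zero_of_odd h2) e⟩⟩

/-- **D6, `K ≅ PSL(2,q)`, `q ≥ 5` odd, `q ≠ 9`** -/
theorem row (C : Ctx G) {K : Subgroup G} (S : Std G K) (hcyc : Iface.Cyc K)
    (h : ∃ (F : Type) (_ : Field F) (_ : Fintype F), Odd (Fintype.card F) ∧ 5 ≤ Fintype.card F ∧
      Fintype.card F ≠ 9 ∧ Nonempty (↥K ≃* Matrix.ProjectiveSpecialLinearGroup (Fin 2) F)) : False := by
  have := C.fin
  obtain ⟨F, _, _, hodd, h5, h9, ⟨e⟩⟩ := h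
  have hK : IsL2o ↥K := ⟨F, _, _, hodd, h5, ⟨e⟩⟩
  have R : L2Aut.Rep F ↥K := L2Aut.Rep.ofEquiv (L2Aut.two_ne_zero_of_odd hodd) e
  have h9' : Nat.card F ≠ 9 := by rw [Nat.card_eq_fintype_card]; exact h9
  have W := world C S hK
  obtain ⟨x, q, St⟩ := exists_start C S hcyc R.center_eq_bot
  obtain ⟨T, pT, cx, syl⟩ := exists_T x
  have Kn : ∀ c, c * x = x * c → ∀ k ∈ K, c * k * c⁻¹ ∈ K := fun c hc k hk =>
    (mem_normalizer_iff.1 (St.nK c hc) k).1 hk
  have CK : ∀ c, c * x = x * c → (∀ k ∈ K, c * k = k * c) → c ∈ zpowers q := fun c hc hK =>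
    St.cK c hc fun k hk => (hK k hk).symm
  by_cases hq : q * q = 1
  · have h1 : ∀ c ∈ zpowers q, c = 1 ∨ c = x := by
      intro c hc
      by_cases hc1 : c = 1
      · exact Or.inl hc1
      · right
        refine St.toStart0.uniq hc ?_ hc1
        obtain ⟨i, rfl⟩ := mem_zpowers_iff.1 hc
        rw [← zpow_add, ← two_mul, zpow_mul]
        rw [show (q : G) ^ (2 : ℤ) = q * q from zpow_two q, hq, one_zpow]
    have S' : Setup x K T :=
      { xx := St.tt
        x1 := St.t1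
        Kx := St.toStart0.Kt
        Kn := Kn
        CK := fun c hc hK => h1 c (CK c hc hK)
        pT := pT
        cx := cx
        syl := syl }
    refine main2 ?_ C.sect5 S' R h9' W
    intro φ u
    have h2 := commutator_eq_top C
    have h3 : commutator G ≤ φ.ker := Abelianization.commutator_subset_ker φ
    rw [h2] at h3
    exact h3 (mem_top u)
  · obtain ⟨n, hn⟩ := St.pQ ⟨q, mem_zpowers q⟩
    have S' : SetupQ x q K T :=
      { xx := St.tt
        x1 := St.t1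
        Kx := St.toStart0.Kt
        Kn := Kn
        Qx := St.toStart0.Qt q (mem_zpowers q)
        QK := fun k hk => (St.qK k hk).symm
        Q2 := ⟨n, congrArg Subtype.val hn⟩
        Qi := fun c hc hcc => by
          by_cases hc1 : c = 1
          · exact Or.inl hc1
          · exact Or.inr (St.toStart0.uniq hc hcc hc1)
        CK := CK
        pT := pT
        cx := cx
        syl := syl }
    exact S'.false_of_q R h9' hq C.sect5 W

/-- the row `PSL(2,7)` -/
theorem row27 (C : Ctx G) {K : Subgroup G} (S : Std G K) (hcyc : Iface.Cyc K) (h : XL27 ↥K) : False := by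
  obtain ⟨F, i1, i2, h1, h2⟩ := h
  exact row C S hcyc ⟨F, i1, i2, by rw [h1]; decide, by omega, by omega, h2⟩

/-- the row `PSL(2,q)`, `q ≥ 11` -/
theorem rowBig (C : Ctx G) {K : Subgroup G} (S : Std G K) (hcyc : Iface.Cyc K) (h : XL2Big ↥K) : False := by
  obtain ⟨F, i1, i2, h0, h1, h2⟩ := h
  exact row C S hcyc ⟨F, i1, i2, h0, by omega, by omega, h2⟩

/-- the node D6 needs only the Ree groups and the groups of rank at least 2 -/
theorem d6_of (hRee : ∀ (G : Type u) [Group G], Ctx G → ∀ K : Subgroup G, Std G K → Iface.Cyc K →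
      Lie.IsoRee ↥K → False)
    (hRk : ∀ (G : Type u) [Group G], Ctx G → ∀ K : Subgroup G, Std G K → Iface.Cyc K →
      (∃ q : ℕ, OddPow q ∧ Rk ↥K q) → False) : Iface.D6.{u} := by
  intro G _ C K S hcyc h ha
  rcases lieOdd_cases h ha with h1 | h1 | h1 | h1
  · exact row27 C S hcyc h1
  · exact rowBig C S hcyc h1
  · exact hRee G C K S hcyc h1
  · exact hRk G C K S hcyc h1

end Cfsg.Agent.OddHalf.D6.LTwoMain

end
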